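/-
Odd cores of involution centralisers in `L₂(q)`, `U₃(4)` and `M₁₁`.
-/
import Cfsg.Agent.H23.R2A
import Cfsg.Agent.H23.PG
import Cfsg.Agent.H23.PGModel
import Cfsg.Agent.H46.Standard
import Cfsg.Agent.H44.PComponents
import Cfsg.Agent.H49.Core
import Cfsg.Agent.H50.BinU3
import Cfsg.Agent.S0205
import Cfsg.Agent.S0420
import Cfsg.Agent.S1603

set_option autoImplicit false
set_option linter.unusedSimpArgs false
set_option linter.unreachableTactic false
set_option linter.unusedTactic false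
set_option linter.unnecessarySeqFocus false

namespace Cfsg.Agent.H23.R2

open Subgroup Matrix
open scoped MatrixGroups
open Cfsg.Agent.H44 (Oppof)

universe u

/-- A property of the elements `y` of the odd core of the centraliser of `x`. -/
def CO {G : Type*} [Group G] (x y : G) : Prop :=
  y * x = x * y ∧ Odd (orderOf y) ∧ ∀ c, c * x = x * c → Odd (orderOf (c * y * c⁻¹ * y⁻¹))

theorem odd_core {G : Type*} [Group G] [Finite G] (H : Subgroup G) : Odd (Nat.card (Oppof 2 H)) :=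
  Nat.coprime_two_right.1 (H44.pPrimeCoreOf_coprime H)

theorem co_of_mem {G : Type*} [Group G] [Finite G] {x y : G}
    (h : y ∈ Oppof 2 (centralizer ({x} : Set G))) : CO x y :=
  ⟨mem_centralizer_singleton_iff.1 (H44.Oppof_le _ h), odd_orderOf_of_mem (odd_core _) h,
    fun _ hc => odd_orderOf_of_mem (odd_core _) (mul_mem
      ((mem_normalizer_iff.1 (H44.le_normalizer_pPrimeCoreOf _
        (mem_centralizer_singleton_iff.2 hc)) y).1 h) (inv_mem h))⟩

theorem CO.map {G H : Type*} [Group G] [Group H] (e : G ≃* H) {x y : G} (h : CO x y) :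
    CO (e x) (e y) := by
  refine ⟨by rw [← map_mul, h.1, map_mul], by rw [e.orderOf_eq]; exact h.2.1, fun c hc => ?_⟩
  obtain ⟨c, rfl⟩ := e.surjective c
  rw [← map_mul, ← map_inv, ← map_inv, ← map_mul, ← map_mul, e.orderOf_eq]
  exact h.2.2 c (e.injective (by rw [map_mul, hc, map_mul]))

/-- Involution centralisers have trivial odd core. -/
def NoC (G : Type*) [Group G] : Prop := ∀ x y : G, orderOf x = 2 → CO x y → y = 1

theorem NoC.of_equiv {G H : Type*} [Group G] [Group H] (e : G ≃* H) (h : NoC H) : NoC G :=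
  fun x _ hx k => e.injective ((h _ _ ((e.orderOf_eq x).trans hx) (k.map e)).trans (map_one e).symm)

theorem eq_one_of_odd_of_four {G : Type*} [Group G] {x : G} (ho : Odd (orderOf x)) (h : x ^ 4 = 1) :
    x = 1 :=
  orderOf_eq_one_iff.1 (Nat.Coprime.eq_one_of_dvd
    (Nat.Coprime.pow_right 2 (Nat.coprime_two_right.2 ho)) (orderOf_dvd_of_pow_eq_one h))

/-! ### `GL₂(3)` and `M₁₁` -/

theorem gl23_aux : ∀ a b c d a' b' c' d' : ZMod 3, !![a, b; c, d] * !![a', b'; c', d'] = 1 →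
    (!![0, 2; 1, 0] * !![a, b; c, d] * !![0, 1; 2, 0] * !![a', b'; c', d']) ^ 4 = 1 ∧
    (!![1, 1; 1, 2] * !![a, b; c, d] * !![2, 2; 2, 1] * !![a', b'; c', d']) ^ 4 = 1 ∧
    (!![0, 2; 1, 0] * !![a, b; c, d] * !![0, 1; 2, 0] * !![a', b'; c', d'] = 1 →
      !![1, 1; 1, 2] * !![a, b; c, d] * !![2, 2; 2, 1] * !![a', b'; c', d'] = 1 →
        !![a, b; c, d] ^ 4 = 1) := by
  decide +kernel

theorem gl23_core {y : GL (Fin 2) (ZMod 3)} (h1 : Odd (orderOf y))
    (h2 : ∀ c, Odd (orderOf (c * y * c⁻¹ * y⁻¹))) : y = 1 := by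
  let i : GL (Fin 2) (ZMod 3) := ⟨!![0, 2; 1, 0], !![0, 1; 2, 0], by decide, by decide⟩
  let j : GL (Fin 2) (ZMod 3) := ⟨!![1, 1; 1, 2], !![2, 2; 2, 1], by decide, by decide⟩
  have k := gl23_aux (y.val 0 0) (y.val 0 1) (y.val 1 0) (y.val 1 1) (y.inv 0 0) (y.inv 0 1)
    (y.inv 1 0) (y.inv 1 1)
  rw [← eta_fin_two, ← eta_fin_two] at k
  obtain ⟨k1, k2, k3⟩ := k y.val_inv
  have e1 := eq_one_of_odd_of_four (h2 i) (Units.ext (by rw [Units.val_pow_eq_pow_val]; exact k1))
  have e2 := eq_one_of_odd_of_four (h2 j) (Units.ext (by rw [Units.val_pow_eq_pow_val]; exact k2))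
  exact eq_one_of_odd_of_four h1 (Units.ext (by
    rw [Units.val_pow_eq_pow_val]; exact k3 (congrArg Units.val e1) (congrArg Units.val e2)))

theorem noC_m11 {G : Type*} [Group G] [Finite G] (hG : IsM11 G) : NoC G := by
  have hp : ∃ p, p ∈ H56.d0 := Finset.card_pos.1 (by
    rw [H14.dodecad_card H55.dod0_mem]; norm_num)
  obtain ⟨p, hp⟩ := hp
  obtain ⟨e⟩ := S0420.result hG _ H55.dod0_mem p hp
  refine NoC.of_equiv e fun x y hx k => ?_
  obtain ⟨f⟩ := S1603.result _ H55.dod0_mem p hp x hx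
  have := gl23_core (y := f ⟨y, mem_centralizer_singleton_iff.2 k.1⟩)
    (by rw [f.orderOf_eq, orderOf_mk]; exact k.2.1) fun c => by
      obtain ⟨c, rfl⟩ := f.surjective c
      rw [← map_mul, ← map_inv, ← map_inv, ← map_mul, ← map_mul, f.orderOf_eq, ← orderOf_coe]
      exact k.2.2 c (mem_centralizer_singleton_iff.1 c.2)
  exact congrArg Subtype.val (f.injective (this.trans (map_one f).symm))

/-! ### `U₃(4)` -/

section U3

open H50.U3J H42 H10

variable {F : Type*} [Field F] [Fintype F] {q : ℕ} [hF : Fact (Fintype.card F = q ^ 2)] [CharP F 2]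

local notation "σ" => H10.cj F q

theorem um_four (a : UM F q) : (uu a : SJ F q) ^ 4 = 1 := by
  rw [show 4 = 2 * 2 from rfl, pow_mul, sq, sq, ← map_mul, ← map_mul,
    UM.sq_eq_one_iff.2 (UM.sq_x a), map_one]

theorem exists_conj_uu {z : SJ F q} (hz : z * z = 1) : ∃ g a, g * z * g⁻¹ = uu a := by
  by_cases hB : z ∈ BB F q
  · obtain ⟨a, l, rfl⟩ := BB_decomp hB
    have := congrArg (fun g => mm g 0 0) hz
    simp only [H50.U3J.mul_apply', mm_uu, mm_dd, mm_one] at this
    simp at this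
    have e : l = 1 := Units.ext ((mul_self_eq_one_iff.1 this).elim id fun k =>
      k.trans (CharTwo.neg_eq 1))
    exact ⟨1, a, by simp [e]⟩
  · obtain ⟨r, -, -, h⟩ := not_BB_decomp hB
    obtain ⟨y, hy⟩ : ∃ y, y = (uu r)⁻¹ * z * uu r := ⟨_, rfl⟩
    have y2 : y * y = 1 := by
      rw [hy, show ∀ a z : SJ F q, a⁻¹ * z * a * (a⁻¹ * z * a) = a⁻¹ * (z * z) * a from
        fun a z => by group, hz]; simp
    have h1 : tt * y ∈ BB F q := by
      have := mul_mem h (uu_mem r)
      rwa [_root_.mul_inv_rev, tt_inv, mul_assoc, mul_assoc, ← mul_assoc _ z, ← hy] at this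
    have h2 : tt * (tt * y) * tt ∈ BB F q := by
      have := inv_mem h1
      rwa [_root_.mul_inv_rev, tt_inv, inv_eq_of_mul_eq_one_left y2, ← one_mul y, ← tt_mul_tt,
        mul_assoc tt tt y] at this
    obtain ⟨l, hl⟩ := eq_dd h1 h2
    obtain ⟨m, hm⟩ : ∃ m, y = dd m * tt :=
      ⟨_, by rw [← tt_mul_dd, ← hl, ← mul_assoc, tt_mul_tt, one_mul]⟩
    have m0 := m.ne_zero
    have m1 := (cj_ne_zero (q := q)).2 m0
    have hσ : σ m = m := by
      have := congrArg (fun g => mm g 0 0) y2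
      simp only [hm, H50.U3J.mul_apply', mm_tt, mm_dd, mm_one] at this
      simp at this
      grind
    have k := zz_tt_zz hσ m0
    rw [Units.mk0_val, ← hm] at k
    have k2 := zz_sq (m : F) hσ
    generalize (uu (zz (m : F) hσ) : SJ F q) = s at k k2
    generalize zz (q := q) (m : F)⁻¹ _ = a at k
    refine ⟨tt * s * (uu r)⁻¹, a, ?_⟩
    calc _ = tt * s * y * s⁻¹ * tt⁻¹ := by rw [hy]; group
      _ = tt * (s * s) * tt * uu a * (tt * tt) := by rw [← k, tt_inv]; group
      _ = _ := by rw [k2, tt_mul_tt, mul_one, mul_one, tt_mul_tt, one_mul]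

theorem isSc_of_co {x y : SJ F q} (hx : orderOf x = 2) (h : CO x y) : IsSc y := by
  obtain ⟨g, a, e⟩ := exists_conj_uu (mul_self_of hx)
  suffices IsSc (g * y * g⁻¹) by simpa [mul_assoc] using this.conj g⁻¹
  have h' := h.map (MulAut.conj g)
  have hx' := ((MulAut.conj g).orderOf_eq x).trans hx
  simp only [MulAut.conj_apply, e] at h' hx'
  generalize g * y * g⁻¹ = y at h'
  have a0 : a.x = 0 := UM.sq_eq_one_iff.1 (uu_injective (by
    rw [map_mul, mul_self_of hx', map_one]))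
  have hB : y ∈ BB F q := by
    by_contra hB
    rw [eq_one_of_conj_mem hB (a := a) (by
      rw [mul_assoc, ← h'.1, inv_mul_cancel_left]; exact uu_mem a), map_one, orderOf_one] at hx'
    omega
  obtain ⟨b, l, rfl⟩ := BB_decomp hB
  have key : ∀ c : UM F q, uu c * (uu b * dd l) = uu b * dd l * uu c := fun c => by
    have k := h'.2.2 (uu c) (by rw [← map_mul, x_zero_comm a0, map_mul])
    have e : uu c * (uu b * dd l) * (uu c)⁻¹ * (uu b * dd l)⁻¹ =
        (uu (c * b * act l c⁻¹ * b⁻¹) : SJ F q) := by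
      rw [map_mul, map_mul, map_mul, ← dd_conj_uu, map_inv, map_inv]; group
    have := eq_one_of_odd_of_four k (e ▸ um_four _)
    rwa [mul_inv_eq_one, mul_inv_eq_iff_eq_mul] at this
  have sc : IsSc (dd l : SJ F q) := by
    obtain ⟨c, hc⟩ := UM.exists_x (F := F) (q := q) 1
    have k := key c
    rw [mul_assoc, dd_mul_uu, ← mul_assoc, ← mul_assoc, mul_left_inj, ← map_mul, ← map_mul] at k
    have k' := congrArg UM.x (uu_injective k)
    have l0 := l.ne_zero
    simp only [UM.mul_x, act, hc] at k'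
    exact isSc_dd_of (by grind)
  have c : Commute (uu b : SJ F q) (dd l) := sc.comm _
  have e1 : (uu b * dd l : SJ F q) ^ 3 = 1 := eq_one_of_odd_of_four
    (h'.2.1.of_dvd_nat (orderOf_pow_dvd 3)) (by
      rw [← pow_mul, c.mul_pow, mul_comm 3 4, pow_mul, um_four, one_pow, one_mul, mul_comm 4 3,
        pow_mul, sc.pow_three, one_pow])
  rw [c.mul_pow, sc.pow_three, mul_one] at e1
  have e2 := um_four b
  rw [pow_succ, e1, one_mul] at e2
  rwa [e2, one_mul]

end U3

theorem noC_u34 {F : Type*} [Field F] [Fintype F] (hF : Fintype.card F = 16) :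
    NoC (PSU 3 F 4) := by
  have : Fact (Fintype.card F = 4 ^ 2) := ⟨hF⟩
  have := H42.charP_of_card hF
  obtain ⟨π, hs, hk⟩ := H50.U3J.exists_proj (F := F) (q := 4)
  have sc : ∀ g : H50.U3J.SJ F 4, H50.U3J.IsSc g → g = 1 := by
    rintro g ⟨c, hc⟩
    have h1 := H50.U3J.mm_det g
    have h2 := H50.U3J.col g 0 2
    rw [hc, det_smul, det_one, mul_one, Fintype.card_fin] at h1
    simp [hc, H50.U3J.Jm, H10.cj_apply] at h2
    have : c = 1 := by grind
    exact H50.U3J.mm_inj (by rw [hc, this, one_smul, H50.U3J.mm_one])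
  refine NoC.of_equiv (MulEquiv.ofBijective π ⟨(injective_iff_map_eq_one π).2 fun g e =>
    sc g ((hk g).1 e), hs⟩).symm fun x y hx h => sc y (isSc_of_co hx h)

/-! ### `L₂(q)` -/

theorem conj_mem_core {G : Type u} [Group G] [Finite G] {x y : G} (g : G)
    (h : y ∈ Oppof 2 (centralizer ({x} : Set G))) :
    g * y * g⁻¹ ∈ Oppof 2 (centralizer ({g * x * g⁻¹} : Set G)) := by
  have e : (centralizer ({x} : Set G)).map (MulAut.conj g).toMonoidHom =
      centralizer {g * x * g⁻¹} := by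
    ext z
    rw [mem_map_equiv, mem_centralizer_singleton_iff, mem_centralizer_singleton_iff,
      MulAut.conj_symm_apply]
    constructor
    · intro k
      calc z * (g * x * g⁻¹) = g * (g⁻¹ * z * g * x) * g⁻¹ := by group
        _ = _ := by rw [k]; group
    · intro k
      calc g⁻¹ * z * g * x = g⁻¹ * (z * (g * x * g⁻¹)) * g := by group
        _ = _ := by rw [k]; group
  exact e ▸ H44.map_Oppof_le (MulAut.conj g).toMonoidHom _ ⟨y, h, rfl⟩

theorem pg_core {G : Type u} [Group G] [Finite G] {Γ : Type*} [Group Γ] [Finite Γ]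
    {L P : Subgroup Γ} {tor : Γ → Subgroup Γ} {τ m p : ℕ} (h : PG L P tor τ m p) {ι : G →* Γ}
    (hι : Function.Injective ι) (hL : ι.range = L) {W : Subgroup G} (hW : Odd (Nat.card W))
    {x x' : G} (hx : orderOf x = 2) (hx' : orderOf x' = 2) (ne : x' ≠ x)
    (c : W ⊓ centralizer {x} = Oppof 2 (centralizer ({x} : Set G)))
    (c' : W ⊓ centralizer {x'} = Oppof 2 (centralizer ({x'} : Set G))) :
    fittingOf W ⊓ centralizer (fittingOf W : Set G) ⊓ centralizer {x} ≤ ⊥ := by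
  rintro z ⟨⟨hz, hz'⟩, zx⟩
  by_contra z1
  have mL : ∀ g, ι g ∈ L := fun g => hL ▸ ⟨g, rfl⟩
  have mP : ∀ g, ι g ∈ P := fun g => h.L_le (mL g)
  have n1 : ∀ {g}, g ≠ 1 → ι g ≠ 1 := fun k e => k (hι (e.trans (map_one ι).symm))
  have sq : ∀ {g}, g ∈ W → g ≠ 1 → ι g * ι g ≠ 1 := fun hg k => by
    rw [← map_mul]
    exact n1 (mt (eq_one_of_odd_of_sq (odd_orderOf_of_mem hW hg)) k)
  have i2 : ∀ {g}, orderOf g = 2 → ι g * ι g = 1 := fun k => by
    rw [← map_mul, mul_self_of k, map_one]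
  have i1 : ∀ {g}, orderOf g = 2 → ι g ≠ 1 := fun k => n1 (by rintro rfl; simp at k)
  have mt : ∀ {t g}, orderOf t = 2 → g ∈ W → g ≠ 1 → g * t = t * g → ι g ∈ tor (ι t) :=
    fun ht hg g1 e => h.mem_tor_of_comm' (mP _) (i1 ht) (mP _) (sq hg g1)
      (by rw [← map_mul, e, map_mul])
  have zW := H49.fittingOf_le W hz
  have k1 := mt hx zW z1 (mem_centralizer_singleton_iff.1 zx)
  have k2 : ∀ g ∈ W, g * x = x * g := fun g hg => hι (by
    rw [map_mul, map_mul]
    refine h.comm_of_conj_mem (mP x) (i2 hx) (i1 hx) k1 (n1 z1) ?_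
    rw [← h.tor_eq _ (mP x) (i1 hx) _ k1 (n1 z1), ← map_mul, ← map_inv, ← map_mul]
    refine h.mem_tor_of_comm (mP z) (sq zW z1) (mP _) ?_
    rw [← map_mul, hz' _ (H49.conj_mem_of_norm (H49.le_norm_fittingOf W) hg hz), map_mul])
  obtain ⟨_, hg, e⟩ := h.conj_inv _ (mP x) (i2 hx) (i1 hx) _ (mP x') (i2 hx') (i1 hx')
    (L.mul_mem (mL x) (mL x'))
  obtain ⟨g, rfl⟩ : _ ∈ ι.range := hL ▸ hg
  rw [← map_mul, ← map_inv, ← map_mul] at e
  have k3 := conj_mem_core g (c ▸ ⟨zW, zx⟩ : z ∈ Oppof 2 (centralizer {x}))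
  rw [hι e, ← c'] at k3
  have y1 : g * z * g⁻¹ ≠ 1 := fun e => z1 (by simpa using e)
  have k4 := mt hx k3.1 y1 (k2 _ k3.1)
  have k5 := mt hx' k3.1 y1 (mem_centralizer_singleton_iff.1 k3.2)
  refine ne (hι (h.eq_of_inv (mP x) (i2 hx) (i1 hx) ?_ (i2 hx') (i1 hx')))
  rw [← h.tor_eq _ (mP x) (i1 hx) _ k4 (n1 y1), h.tor_eq _ (mP x') (i1 hx') _ k5 (n1 y1)]
  exact h.self_mem _ (mP x')

theorem l2_core {G : Type u} [Group G] [Finite G] [IsSimpleGroup G] (hG : ¬ IsMulCommutative G)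
    {F : Type*} [Field F] [Finite F]
    (ho : Odd (Nat.card F)) (h3 : 3 < Nat.card F) (e : G ≃* PSL(2, F)) {W : Subgroup G}
    (hW : Odd (Nat.card W)) {u w : G} (h4 : Four u w) (huW : u ∈ normalizer (W : Set G))
    (hwW : w ∈ normalizer (W : Set G))
    (hC : ∀ x : G, x = u ∨ x = w ∨ x = u * w →
      W ⊓ centralizer {x} = Oppof 2 (centralizer ({x} : Set G))) : W = ⊥ := by
  by_contra hne
  obtain ⟨τ, m, p, -, h⟩ := Pgl.exists_pg F ho h3
  have hι : Function.Injective ((MulAut.conj : PSL(2, F) →* _).comp e.toMonoidHom) := by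
    refine (MonoidHom.ker_eq_bot_iff _).1 ((Normal.eq_bot_or_eq_top inferInstance).resolve_right
      fun k => hG ⟨⟨fun a b => e.injective ?_⟩⟩)
    have : MulAut.conj (e a) = 1 := (eq_top_iff.1 k (mem_top a) :)
    have := congrArg (fun f : MulAut PSL(2, F) => f (e b)) this
    rw [map_mul, map_mul, ← mul_inv_eq_iff_eq_mul]
    exact this
  have hL : ((MulAut.conj : PSL(2, F) →* _).comp e.toMonoidHom).range =
      (MulAut.conj : PSL(2, F) →* _).range := by
    rw [MonoidHom.range_comp, MonoidHom.range_eq_top.2 e.surjective, ← MonoidHom.range_eq_map]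
  obtain ⟨hu, hw, ne, c⟩ := h4
  have huw : orderOf (u * w) = 2 := order_two
    (by rw [mul_assoc, ← mul_assoc w, ← c, mul_assoc, mul_self_of hw, mul_one, mul_self_of hu])
    fun k => ne (by rw [eq_inv_of_mul_eq_one_left k, inv_eq_of_mul_eq_one_left (mul_self_of hw)])
  have nz : ∀ {g}, g ∈ normalizer (W : Set G) → g ∈ normalizer ((fittingOf W ⊓
      centralizer (fittingOf W : Set G) : Subgroup G) : Set G) := fun hg =>
    H49.norm_inf (H49.norm_le_norm_fittingOf W) (H49.norm_cent (H49.norm_le_norm_fittingOf W)) hg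
  refine H49.center_ne_bot_of_nilpotent (H49.fittingOf_nil W)
    (H49.fittingOf_ne_bot (S0205.result hW) hne) (le_bot_iff.1 (H46.le_of_four hu hw ne c ?_
      (nz huW) (nz hwW) (pg_core h hι hL hW hu hw ne.symm (hC _ (by simp)) (hC _ (by simp)))
      (pg_core h hι hL hW hw hu ne (hC _ (by simp)) (hC _ (by simp)))
      (pg_core h hι hL hW huw hu ?_ (hC _ (by simp)) (hC _ (by simp)))))
  · rw [← even_iff_two_dvd, Nat.not_even_iff_odd]
    exact hW.of_dvd_nat (card_dvd_of_le (inf_le_left.trans (H49.fittingOf_le W)))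
  · intro k
    rw [left_eq_mul.1 k, orderOf_one] at hw
    omega

end Cfsg.Agent.H23.R2
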