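/-
Principal 2-blocks and elementary abelian Sylow 2-subgroups: multiplicities of linear characters,
and odd order subgroups normalized by a Sylow 2-subgroup.
-/
import Cfsg.Agent.JR.Basic
import Cfsg.Agent.H46.Generation
import Cfsg.Agent.H44.EAIdx
import Cfsg.Agent.H33.Princ
import Cfsg.Agent.H34.Quot
import Cfsg.Agent.H8.OddCore
import Cfsg.Agent.H8.StrongEmb
import Cfsg.Agent.S0942

set_option autoImplicit false

namespace Cfsg.Agent.H23.CD

open Subgroup Cfsg Cfsg.Agent.H49 Cfsg.Agent.H32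
open scoped ComplexConjugate

universe u

section mu

variable {A G : Type*} [Group A] [Fintype A] [Group G]

/-- The multiplicity of the linear character `l` in the pull-back of `θ` along `f`. -/
noncomputable def mu (f : A →* G) (θ : G → ℂ) (l : A →* ℂˣ) : ℂ :=
  classInner (fun a => θ (f a)) (fun a => (l a : ℂ))

theorem mu_nat (f : A →* G) {θ : G → ℂ} (h : IsCharacter G θ) (l : A →* ℂˣ) :
    ∃ n : ℕ, mu f θ l = n :=
  H5.exists_nat_classInner (H5.isCharacter_comp h f) (H5.isCharacter_monoidHom l)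

theorem mu_eq (f : A →* G) (θ : G → ℂ) (l : A →* ℂˣ) :
    (Nat.card A : ℂ) * mu f θ l = ∑ a, conj (l a : ℂ) * θ (f a) := by
  unfold mu classInner
  rw [← mul_assoc, mul_inv_cancel₀ H5.natCard_ne_zero, one_mul]
  exact Finset.sum_congr rfl fun a _ => mul_comm _ _

/-- If `l` does not occur in `θ`, the corresponding idempotent acts as zero. -/
theorem sum_mul_eq_zero (f : A →* G) {θ : G → ℂ} (h : IsCharacter G θ) {l : A →* ℂˣ}
    (h0 : mu f θ l = 0) (x : G) : ∑ a, conj (l a : ℂ) * θ (f a * x) = 0 := by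
  classical
  obtain ⟨n, ρ, rfl⟩ := h
  set E : Module.End ℂ (Fin n → ℂ) := ∑ a, conj (l a : ℂ) • ρ (f a) with hE
  have hc : (Nat.card A : ℂ) ≠ 0 := H5.natCard_ne_zero
  have h1 : ∀ b, (conj (l b : ℂ) • ρ (f b)) * E = E := fun b => by
    rw [hE, Finset.mul_sum]
    refine Fintype.sum_equiv (Equiv.mulLeft b) _ _ fun a => ?_
    simp only [Equiv.coe_mulLeft, map_mul, Units.val_mul, smul_mul_smul_comm]
  have h2 : E * E = (Nat.card A : ℂ) • E := by
    nth_rw 1 [hE]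
    rw [Finset.sum_mul, Finset.sum_congr rfl fun b _ => h1 b, Finset.sum_const, Finset.card_univ,
      Nat.card_eq_fintype_card, Nat.cast_smul_eq_nsmul]
  have h3 : IsIdempotentElem ((Nat.card A : ℂ)⁻¹ • E) := by
    unfold IsIdempotentElem
    rw [smul_mul_smul_comm, h2, smul_smul, mul_assoc, inv_mul_cancel₀ hc, mul_one]
  have h4 : LinearMap.trace ℂ _ E = 0 := by
    have := mu_eq f ρ.character l
    rw [h0, mul_zero] at this
    rw [this, hE, map_sum]
    exact Finset.sum_congr rfl fun a _ => by rw [map_smul, smul_eq_mul]; rfl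
  have h5 : (Nat.card A : ℂ)⁻¹ • E = 0 :=
    LinearMap.IsIdempotentElem.eq_zero_of_trace_eq_zero h3 (by rw [map_smul, h4, smul_zero])
  have h6 : E = 0 := (smul_eq_zero.1 h5).resolve_left (inv_ne_zero hc)
  have h7 : LinearMap.trace ℂ _ (E * ρ x) = 0 := by rw [h6, zero_mul, map_zero]
  rw [← h7, hE, Finset.sum_mul, map_sum]
  exact Finset.sum_congr rfl fun a _ => by
    rw [smul_mul_assoc, map_smul, smul_eq_mul, ← map_mul]; rfl

/-- All characters of the principal block are multiplicity free on the image of `f`. -/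
def MF (I : Ideal AlgInt) (f : A →* G) : Prop :=
  ∀ θ ∈ principalBlock I G, ∀ l : A →* ℂˣ, mu f (θ : G → ℂ) l = 0 ∨ mu f (θ : G → ℂ) l = 1

variable {I : Ideal AlgInt}

theorem mu_le_of_over [Finite G] (H : Subgroup G) [Fintype H] (f : A →* H) {χ : IrrCharacter G}
    {θ : IrrCharacter H} (h : classInner (fun h : H => (χ : G → ℂ) h) (θ : H → ℂ) ≠ 0)
    (l : A →* ℂˣ) (hl : mu (H.subtype.comp f) (χ : G → ℂ) l = 0 ∨
      mu (H.subtype.comp f) (χ : G → ℂ) l = 1) :
    mu f (θ : H → ℂ) l = 0 ∨ mu f (θ : H → ℂ) l = 1 := by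
  have h1 := H5.isCharacter_sub_of_constituent
    (H5.isCharacter_restrict (H5.isCharacter_of_isIrr χ.2) H) θ.2 h
  obtain ⟨m, hm⟩ := mu_nat f h1 l
  obtain ⟨n, hn⟩ := mu_nat f (H5.isCharacter_of_isIrr θ.2) l
  have h2 : mu (H.subtype.comp f) (χ : G → ℂ) l = m + n := by
    rw [← hm, ← hn]
    unfold mu
    rw [← H5.classInner_add_left]
    congr 1
    funext a
    simp
  rw [h2] at hl
  rw [hn]
  have : m + n = 0 ∨ m + n = 1 := by exact_mod_cast hl
  have : n = 0 ∨ n = 1 := by omega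
  exact_mod_cast this

theorem MF.sub [Finite G] (hI : IsPModular 2 I) (H : Subgroup G) (f : A →* H)
    (h : MF I (H.subtype.comp f)) : MF I f := by
  have := hI.2.1
  have := Fintype.ofFinite G
  have := Fintype.ofFinite H
  intro θ hθ l
  obtain ⟨χ, hχ, h1⟩ := H33.exists_principal_over hI H hθ
  exact mu_le_of_over H f h1 l (h χ hχ l)

theorem MF.quot [Finite G] (hI : IsPModular 2 I) {Q : Type*} [Group Q] {π : G →* Q}
    (hπ : Function.Surjective π) {f : A →* G} (h : MF I f) : MF I (π.comp f) := by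
  have := hI.2.1
  intro θ hθ l
  exact h (H34.infl hπ θ) (H34.sameBlock_infl hπ (χ := H33.oneIrr _) hθ) l

theorem MF.range {f : A →* G} (h : MF I f) [Fintype f.range] : MF I f.range.subtype := by
  intro θ hθ l
  have := H5.classInner_comp_surjective f.rangeRestrict f.rangeRestrict_surjective
    (fun a => (θ : G → ℂ) (f.range.subtype a)) (fun a => (l a : ℂ))
  have h1 := h θ hθ (l.comp f.rangeRestrict)
  unfold mu at h1 ⊢
  rw [← this]
  exact h1

/-- Expansion of a character on an abelian group. -/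
theorem apply_eq_of_forall_mu (hA : ∀ a b : A, a * b = b * a) (f : A →* G) {θ : G → ℂ}
    (h : IsCharacter G θ) (h1 : ∀ l, mu f θ l = 1) {a : A} (ha : a ≠ 1) : θ (f a) = 0 := by
  classical
  have := Fintype.ofFinite (IrrCharacter A)
  have h2 := congrFun (H5.isCharacter_eq_sum (H5.isCharacter_comp h f)) a
  have h3 := H5.sum_degree_mul_irr a
  rw [if_neg ha] at h3
  rw [h2, Finset.sum_apply, ← h3]
  refine Finset.sum_congr rfl fun ψ _ => ?_
  obtain ⟨l, hl⟩ := H5.exists_monoidHom_of_comm hA ψ.2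
  have := h1 l
  unfold mu at this
  rw [Pi.smul_apply, smul_eq_mul, H5.degree_eq_one_of_comm hA ψ.2, hl, this]

end mu

section loc

variable {G : Type u} [Group G] [Finite G] {I : Ideal AlgInt} {T : Subgroup G}

theorem not_dvd_index_cent (hT : IsSylowOf 2 T ⊤) (hE : IsElementaryAbelian 2 T) {z : G}
    (hz : z ∈ T) : ¬ 2 ∣ (𝒞[z] : Subgroup G).index := by
  have h1 := ((sylowOf_iff Nat.prime_two).1 hT).2.2
  rw [relIndex_top_right] at h1
  exact fun h => h1 (h.trans (index_dvd_of_le (H44.ea2_cent1 hE hz)))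

/-- A character of the principal block does not vanish on an abelian Sylow subgroup. -/
theorem apply_ne_zero (hI : IsPModular 2 I) (hT : IsSylowOf 2 T ⊤) (hE : IsElementaryAbelian 2 T)
    {θ : IrrCharacter G} (hθ : θ ∈ principalBlock I G) {z : G} (hz : z ∈ T) :
    (θ : G → ℂ) z ≠ 0 := by
  have := hI.2.1
  intro h
  have h1 := H33.div_sub_one_mem_of_principal hI hθ (not_dvd_index_cent hT hE hz)
  rw [h, zero_div, zero_sub] at h1
  exact one_not_mem_locMax (by simpa using (locMax I).neg_mem h1)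

theorem MF.exists_missing (hI : IsPModular 2 I) (hT : IsSylowOf 2 T ⊤)
    (hE : IsElementaryAbelian 2 T) [Fintype T] (h : MF I T.subtype) {z : G} (hz : z ∈ T)
    (hz1 : z ≠ 1) {θ : IrrCharacter G} (hθ : θ ∈ principalBlock I G) :
    ∃ l, mu T.subtype (θ : G → ℂ) l = 0 := by
  by_contra hn
  push Not at hn
  refine apply_ne_zero hI hT hE hθ hz ?_
  exact apply_eq_of_forall_mu (fun a b => Subtype.ext (H44.ea2_comm hE a.2 b.2)) T.subtype
    (H5.isCharacter_of_isIrr θ.2) (fun l => (h θ hθ l).resolve_left (hn l)) (a := ⟨z, hz⟩)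
    (fun e => hz1 (congrArg Subtype.val e))

theorem mem_ppc {t x : G} (h : x ∈ piCoreOf {2}ᶜ (𝒞[t] : Subgroup G)) :
    x ∈ centralizerPPrimeCore 2 t := by
  have h1 : (piCoreOf {2}ᶜ (𝒞[t] : Subgroup G)).subgroupOf 𝒞[t] ≤ pPrimeCore 2 _ := by
    refine H8.le_pPrimeCore_two (normal_subgroupOf (le_norm_piCoreOf _ _)) ?_
    rw [Nat.card_congr (subgroupOfEquivOfLe (piCoreOf_le _ _)).toEquiv]
    exact JR.odd_Od _
  exact ⟨⟨x, piCoreOf_le _ _ h⟩, h1 h, rfl⟩

/-- The trace lemma, for one element. -/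
theorem apply_eq_of_pm (hI : IsPModular 2 I) (hT : IsSylowOf 2 T ⊤)
    (hE : IsElementaryAbelian 2 T) [Fintype T]
    (hs : ∀ z ∈ T, z ≠ 1 → Group.IsSolvable (𝒞[z] : Subgroup G)) {θ : IrrCharacter G}
    (hθ : θ ∈ principalBlock I G) {l : T →* ℂˣ} (hl : mu T.subtype (θ : G → ℂ) l = 0)
    {Q : Subgroup G} (hQ : Odd (Nat.card Q)) (hn : T ≤ 𝒩(Q)) {x : G} (hx : x ∈ Q)
    (h : ∀ t ∈ T, t * x * t⁻¹ = x ∨ t * x * t⁻¹ = x⁻¹) : (θ : G → ℂ) x = (θ : G → ℂ) 1 := by
  classical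
  have hc := H5.isCharacter_of_isIrr θ.2
  have h1 : ∀ t ∈ T, t ≠ 1 → (θ : G → ℂ) (t * x) = (θ : G → ℂ) t := fun t ht ht1 => by
    have h2 := H44.ea2_sq hE ht
    rcases h t ht with e | e
    · have hxc : x ∈ (𝒞[t] : Subgroup G) := mem_cent1.2 (by rw [mul_inv_eq_iff_eq_mul] at e; exact e.symm)
      have hTc := H44.ea2_cent1 hE ht
      have h3 : Q ⊓ 𝒞[t] ≤ piCoreOf {2}ᶜ (𝒞[t] : Subgroup G) :=
        JR.le_core_of_norm Nat.prime_two (hs t ht ht1) (hT.sub hTc le_top) inf_le_right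
          ((JR.odd_iff_pi.1 hQ).of_le inf_le_left) (norm_inf hn (norm_of_le hTc))
      exact S0942.result 2 I hI t ⟨1, H8.orderOf_two_of h2 ht1⟩ x (mem_ppc (h3 ⟨hx, hxc⟩)) θ hθ
    · have h3 : t * x * (t * x) = 1 := by
        have : t⁻¹ = t := inv_eq_of_mul_eq_one_right h2
        calc t * x * (t * x) = t * x * t⁻¹ * x := by rw [this]; group
          _ = 1 := by rw [e, inv_mul_cancel]
      have h4 : IsConj t (t * x) := H8.isConj_of_odd h2 h3 (by
        rw [← mul_assoc, h2, one_mul]; exact JR.odd_orderOf hQ hx)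
      exact (H5.isClassFunction_apply_of_isConj (H5.isClassFunction_of_isCharacter hc) h4).symm
  have h2 := sum_mul_eq_zero T.subtype hc hl x
  have h3 := sum_mul_eq_zero T.subtype hc hl 1
  have h4 : ∑ a : T, conj (l a : ℂ) * ((θ : G → ℂ) (a * x) - (θ : G → ℂ) a) = 0 := by
    simp only [mul_sub, Finset.sum_sub_distrib]
    simp only [coe_subtype, mul_one] at h2 h3
    rw [h2, h3, sub_zero]
  rw [Finset.sum_eq_single 1 (fun a _ ha => by
    rw [h1 a a.2 (fun e => ha (Subtype.ext e)), sub_self, mul_zero]) (by simp)] at h4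
  simpa [sub_eq_zero] using h4

/-- The trace lemma. -/
theorem le_ker (hI : IsPModular 2 I) (hT : IsSylowOf 2 T ⊤)
    (hE : IsElementaryAbelian 2 T) [Fintype T]
    (hs : ∀ z ∈ T, z ≠ 1 → Group.IsSolvable (𝒞[z] : Subgroup G)) {θ : IrrCharacter G}
    (hθ : θ ∈ principalBlock I G) {l : T →* ℂˣ} (hl : mu T.subtype (θ : G → ℂ) l = 0)
    {Q : Subgroup G} (hQ : Odd (Nat.card Q)) (hn : T ≤ 𝒩(Q)) :
    Q ≤ H5.charKer (H5.isCharacter_of_isIrr θ.2) := by
  refine H46.le_of_forall_cyclic_quotient (p := 2) (hT.pi.isPGroup Nat.prime_two) hE.1 _ Q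
    (by rwa [← even_iff_two_dvd, Nat.not_even_iff_odd]) hn ?_
  rintro B hB ⟨a, ha, hBa⟩ y hy
  have key : ∀ x ∈ Q ⊓ 𝒞(B), (a * x * a⁻¹ = x ∨ a * x * a⁻¹ = x⁻¹) →
      x ∈ H5.charKer (H5.isCharacter_of_isIrr θ.2) := fun x hx h => by
    refine (H5.mem_charKer _).2 (apply_eq_of_pm hI hT hE hs hθ hl hQ hn hx.1 fun t ht => ?_)
    rw [← hBa, H44.mem_sup_zpowers_iff hE hB ha] at ht
    rcases ht with ht | ht
    · left
      rw [hx.2 t ht, mul_inv_cancel_right]
    · have e : t * a * x * (t * a)⁻¹ = x := by rw [hx.2 _ ht, mul_inv_cancel_right]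
      have ha2 : a⁻¹ = a := inv_eq_of_mul_eq_one_right (H44.ea2_sq hE ha)
      rcases h with h | h
      · left
        calc t * x * t⁻¹ = t * (a * x * a⁻¹) * t⁻¹ := by rw [h]
          _ = t * a * x * (t * a)⁻¹ := by group
          _ = x := e
      · right
        have h' : a * x⁻¹ * a⁻¹ = x := by
          rw [← inv_inj]; simp only [mul_inv_rev, inv_inv, ← mul_assoc]; exact h
        have e' : t * a * x⁻¹ * (t * a)⁻¹ = x⁻¹ := by
          rw [← inv_inj]; simp only [mul_inv_rev, inv_inv, ← mul_assoc] at e ⊢; exact e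
        calc t * x * t⁻¹ = t * (a * x⁻¹ * a⁻¹) * t⁻¹ := by rw [h']
          _ = t * a * x⁻¹ * (t * a)⁻¹ := by group
          _ = x⁻¹ := e'
  by_cases h1 : a = 1
  · exact key y hy (Or.inl (by simp [h1]))
  · have ha2 := H8.orderOf_two_of (H44.ea2_sq hE ha) h1
    have hK : T ≤ 𝒩(Q ⊓ 𝒞(B)) := norm_inf hn (norm_cent (H44.ea2_norm hE le_rfl hB))
    obtain ⟨c, hc, w, hw, e, rfl⟩ := JR.exists_fix_mul_inv ha2 (hK ha)
      (hQ.of_dvd_nat (card_dvd_of_le inf_le_left)) hy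
    refine mul_mem (key c hc.1 (Or.inl ?_)) (key w hw (Or.inr e))
    rw [← mem_cent1.1 hc.2, mul_inv_cancel_right]

/-- Local structure when no nontrivial odd order subgroup is normalized by `T`. -/
theorem cent_le (hT : IsSylowOf 2 T ⊤) (hE : IsElementaryAbelian 2 T) {z : G} (hz : z ∈ T)
    (hs : Group.IsSolvable (𝒞[z] : Subgroup G))
    (h : ∀ Q : Subgroup G, Odd (Nat.card Q) → T ≤ 𝒩(Q) → Q = ⊥) :
    𝒞[z] ≤ 𝒩(T) ∧ 𝒞(T) ≤ T := by
  have hTc := H44.ea2_cent1 hE hz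
  have h1 : piCoreOf {2}ᶜ (𝒞[z] : Subgroup G) = ⊥ :=
    h _ (JR.odd_Od _) (hTc.trans (le_norm_piCoreOf _ _))
  obtain ⟨h2, -, h3⟩ := JR.hh_abelian hs (hT.sub hTc le_top) hE.1
  rw [h1, bot_sup_eq] at h2 h3
  refine ⟨h2, fun x hx => h3 x (cent_le_cent1 hz hx) fun w hw => ?_⟩
  rw [mem_bot, ← hx w hw]
  group

theorem se_norm (hT : IsSylowOf 2 T ⊤) (hE : IsElementaryAbelian 2 T) (h1 : T ≠ ⊥)
    (h : ∀ z ∈ T, z ≠ 1 → 𝒞[z] ≤ 𝒩(T)) (hN : 𝒩(T) ≠ ⊤) : IsStronglyEmbedded 𝒩(T) := by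
  have hTN : IsSylowOf 2 T 𝒩(T) := hT.sub le_normalizer le_top
  have hm : ∀ t ∈ (𝒩(T) : Subgroup G), orderOf t = 2 → t ∈ T := fun t ht h2 =>
    hTN.mem_of_normal le_rfl ht (by
      unfold IsPiElt; rw [h2]; intro p hp hd
      exact (Nat.prime_dvd_prime_iff_eq hp Nat.prime_two).1 hd)
  refine H8.isStronglyEmbedded_iff.2 ⟨hN, ?_, fun t ht h2 g hg => ?_⟩
  · obtain ⟨a, ha, ha1⟩ := H44.exists_ne_one_of_ne_bot h1
    exact H8.even_card_of_involution (le_normalizer ha) (H8.orderOf_two_of (H44.ea2_sq hE ha) ha1)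
  · have htT := hm t ht h2
    have hgT := hm _ hg (by rw [H8.orderOf_conj', h2])
    have h3 : IsSylowOf 2 (cj g T) (𝒞[g * t * g⁻¹] : Subgroup G) := by
      rw [← cj_cent1]
      exact (hT.sub (H44.ea2_cent1 hE htT) le_top).cj g
    have h4 := (hT.sub (H44.ea2_cent1 hE hgT) le_top).eq_of_normal
      (h _ hgT (H8.ne_one_of_orderOf_two (by rw [H8.orderOf_conj', h2]))) h3
    exact mem_norm_iff_cj.2 h4

end loc

end Cfsg.Agent.H23.CD
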