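/-
If all characters of the principal 2-block are multiplicity free on an elementary abelian Sylow
2-subgroup then the group is solvable.
-/
import Cfsg.Agent.H23.CD1
import Cfsg.Agent.H86.Reg
import Cfsg.Agent.S0907
import Cfsg.Agent.S0938
import Cfsg.Agent.S1225

set_option autoImplicit false

namespace Cfsg.Agent.H23.CD

open Subgroup Cfsg Cfsg.Agent.H49 Cfsg.Agent.H32
open scoped ComplexConjugate

universe u

variable {G : Type u} [Group G] {I : Ideal AlgInt} {T : Subgroup G}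

theorem card_mul_mu [Fintype T] {θ : G → ℂ} {c : ℂ} (hc : ∀ t ∈ T, t ≠ 1 → θ t = c)
    (l : T →* ℂˣ) :
    (Nat.card T : ℂ) * mu T.subtype θ l = θ 1 - c + c * ∑ a, conj (l a : ℂ) := by
  classical
  rw [mu_eq, Finset.mul_sum, ← sub_eq_iff_eq_add, ← Finset.sum_sub_distrib,
    Finset.sum_eq_single 1 (fun a _ ha => by
      rw [coe_subtype, hc a a.2 (fun e => ha (Subtype.ext e))]; ring) (by simp)]
  simp

theorem card_mul_mu_one [Fintype T] {θ : G → ℂ} {c : ℂ} (hc : ∀ t ∈ T, t ≠ 1 → θ t = c) :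
    (Nat.card T : ℂ) * mu T.subtype θ 1 = θ 1 - c + c * Nat.card T := by
  rw [card_mul_mu hc]
  simp

theorem card_mul_mu_ne [Fintype T] {θ : G → ℂ} {c : ℂ} (hc : ∀ t ∈ T, t ≠ 1 → θ t = c)
    {l : T →* ℂˣ} (hl : l ≠ 1) : (Nat.card T : ℂ) * mu T.subtype θ l = θ 1 - c := by
  classical
  rw [card_mul_mu hc]
  have h := H5.classInner_monoidHom (1 : T →* ℂˣ) l
  rw [if_neg hl.symm] at h
  unfold classInner at h
  have h2 := (mul_eq_zero.1 h).resolve_left (inv_ne_zero H5.natCard_ne_zero)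
  simp only [MonoidHom.one_apply, Units.val_one, one_mul] at h2
  rw [h2, mul_zero, add_zero]

variable [Finite G]

theorem exists_hom_neg (hE : IsElementaryAbelian 2 T) {z : G} (hz : z ∈ T) (hz1 : z ≠ 1) :
    ∃ l : T →* ℂˣ, l ⟨z, hz⟩ = -1 := by
  by_contra hn
  push Not at hn
  refine hz1 (congrArg Subtype.val (H5.eq_one_of_forall_irr (g := (⟨z, hz⟩ : T)) fun χ hχ => ?_))
  obtain ⟨l, rfl⟩ := H5.exists_monoidHom_of_comm
    (fun a b : T => Subtype.ext (H44.ea2_comm hE a.2 b.2)) hχ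
  have h1 : l ⟨z, hz⟩ * l ⟨z, hz⟩ = 1 := by
    rw [← map_mul, ← map_one l]; congr 1; exact Subtype.ext (H44.ea2_sq hE hz)
  have h2 : (l ⟨z, hz⟩ : ℂ) * l ⟨z, hz⟩ = 1 := by rw [← Units.val_mul, h1, Units.val_one]
  rcases mul_self_eq_one_iff.1 h2 with h | h
  · simp [h]
  · exact absurd (Units.ext h) (hn l)

theorem exists_hom_ne (hE : IsElementaryAbelian 2 T) {z : G} (hz : z ∈ T) (hz1 : z ≠ 1) :
    ∃ l : T →* ℂˣ, l ≠ 1 := by
  obtain ⟨l, hl⟩ := exists_hom_neg hE hz hz1
  refine ⟨l, fun e => ?_⟩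
  rw [e, MonoidHom.one_apply] at hl
  have := congrArg Units.val hl
  norm_num at this

theorem ker_eq_bot {χ : G → ℂ} (hχ : IsCharacter G χ) {z : G}
    (hz : ∀ a : G, orderOf a = 2 → IsConj z a) (h : χ z ≠ χ 1)
    (hO : ∀ N : Subgroup G, N.Normal → Odd (Nat.card N) → N = ⊥) : H5.charKer hχ = ⊥ := by
  refine hO _ inferInstance (Nat.not_even_iff_odd.1 fun he => h ?_)
  obtain ⟨t, ht, h2⟩ := H8.exists_involution_of_even _ he
  rw [H5.isClassFunction_apply_of_isConj (H5.isClassFunction_of_isCharacter hχ) (hz t h2)]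
  exact ht

theorem eq_bot_of_forall_ker (hI : IsPModular 2 I)
    (hO : ∀ N : Subgroup G, N.Normal → Odd (Nat.card N) → N = ⊥) {x : G}
    (h : ∀ θ ∈ principalBlock I G, (θ : G → ℂ) x = (θ : G → ℂ) 1) : x = 1 := by
  have := hI.2.1
  obtain ⟨K, hK, h1, h2, -⟩ := S0938.result 2 I hI _ H33.isPBlock_principalBlock _
    (H33.oneIrr_mem_principalBlock (G := G))
  have h3 : x ∈ (K : Set G) := h1 ▸ h
  rwa [hO K hK (by rwa [← Nat.not_even_iff_odd, even_iff_two_dvd])] at h3

/-- The nonprincipal characters of the principal block. -/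
noncomputable def nb (I : Ideal AlgInt) (G : Type u) [Group G] [Finite G] :
    Finset (IrrCharacter G) := by
  classical exact (H86.fs (principalBlock I G)).erase (H33.oneIrr G)

theorem mem_nb {χ : IrrCharacter G} :
    χ ∈ nb I G ↔ χ ∈ principalBlock I G ∧ (χ : G → ℂ) ≠ fun _ => 1 := by
  classical
  unfold nb
  rw [Finset.mem_erase, H86.mem_fs, and_comm]
  exact and_congr_right fun _ => not_congr Subtype.ext_iff

theorem finsum_eq_nb (hI : IsPModular 2 I) (F : IrrCharacter G → ℂ) :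
    ∑ᶠ χ ∈ principalBlock I G, F χ = F (H33.oneIrr G) + ∑ χ ∈ nb I G, F χ := by
  classical
  have := hI.2.1
  rw [H86.finsum_mem_fs]
  unfold nb
  convert (Finset.add_sum_erase _ F (H86.mem_fs.2 (H33.oneIrr_mem_principalBlock (M := I)))).symm

theorem sum_nb_deg (hI : IsPModular 2 I) {y : G} (hy : 2 ∣ orderOf y) :
    ∑ χ ∈ nb I G, (χ : G → ℂ) 1 * (χ : G → ℂ) y = -1 := by
  have := hI.2.1
  have h := S0907.result 2 I hI _ H33.isPBlock_principalBlock (1 : G) y⁻¹ (by simp) (by simpa)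
  rw [finsum_eq_nb hI] at h
  simp only [H33.oneIrr_apply, map_one, mul_one, ← H5.isIrr_apply_inv (Subtype.prop _),
    inv_inv] at h
  linear_combination h

omit [Finite G] in
theorem not_dvd_of_sub {A : Type*} [Group A] (H : Subgroup G) (f : A →* H)
    (h : ¬ 2 ∣ (H.subtype.comp f).range.index) : ¬ 2 ∣ f.range.index := by
  intro h1
  apply h
  rw [MonoidHom.range_comp, index_map_subtype]
  exact h1.mul_right _

theorem solvable_aux (hI : IsPModular 2 I) (n : ℕ) : ∀ (G : Type u) [Group G] [Finite G],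
    Nat.card G = n → ∀ (A : Type u) [Group A] [Fintype A] (f : A →* G), (∀ a : A, a * a = 1) →
      ¬ 2 ∣ f.range.index → MF I f → Group.IsSolvable G := by
  induction n using Nat.strong_induction_on with
  | _ n ih =>
  intro G _ _ hn A _ _ f hA hi hf
  classical
  have := hI.2.1
  set T := f.range with hTf
  have := Fintype.ofFinite T
  have hM : MF I T.subtype := hf.range
  have hsq : ∀ a : T, a * a = 1 := by
    rintro ⟨_, a, rfl⟩
    exact Subtype.ext (by simp [← map_mul, hA])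
  have hE : IsElementaryAbelian 2 T := ⟨⟨⟨fun a b => by
    have h1 : ∀ a : T, a⁻¹ = a := fun a => inv_eq_of_mul_eq_one_right (hsq a)
    rw [← h1 (a * b), mul_inv_rev, h1, h1]⟩⟩,
    fun a ha => by rw [sq]; exact congrArg Subtype.val (hsq ⟨a, ha⟩)⟩
  have hT : IsSylowOf 2 T ⊤ := (sylowOf_iff Nat.prime_two).2
    ⟨le_top, H46.isPGroup_of_isElementaryAbelian hE, by rwa [relIndex_top_right]⟩
  clear_value T
  have hsub : ∀ H : Subgroup G, T ≤ H → H ≠ ⊤ → Group.IsSolvable H := fun H h1 h2 => by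
    refine ih _ ?_ H rfl T (inclusion h1) hsq (not_dvd_of_sub H _ ?_) (MF.sub hI H _ hM)
    · rw [← hn, ← card_top (G := G)]
      exact card_lt_of_lt (lt_top_iff_ne_top.2 h2)
    · change ¬ 2 ∣ T.subtype.range.index
      rwa [range_subtype]
  by_contra hG
  have hsol : ∀ N : Subgroup G, N.Normal → Group.IsSolvable N → N = ⊥ := fun N _ h1 => by
    by_contra h2
    have h3 : Group.IsSolvable (G ⧸ N) := by
      refine ih _ ?_ (G ⧸ N) rfl T ((QuotientGroup.mk' N).comp T.subtype) hsq ?_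
        (hM.quot hI (QuotientGroup.mk'_surjective N))
      · rw [← hn, card_eq_card_quotient_mul_card_subgroup N]
        exact lt_mul_of_one_lt_right Nat.card_pos (one_lt_card_iff_ne_bot N |>.2 h2)
      · rw [MonoidHom.range_comp, range_subtype]
        exact fun h => hi (h.trans (index_map_dvd T (QuotientGroup.mk'_surjective N)))
    exact hG (Group.isSolvable_of_ker_le_range N.subtype (QuotientGroup.mk' N) (by simp))
  have hO : ∀ N : Subgroup G, N.Normal → Odd (Nat.card N) → N = ⊥ := fun N h1 h2 =>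
    hsol N h1 (JR.solv_odd h2)
  have hT1 : T ≠ ⊥ := by
    rintro rfl
    rw [index_bot, ← even_iff_two_dvd, Nat.not_even_iff_odd] at hi
    exact hG (S0205.result hi)
  have hK : normalClosure (T : Set G) = ⊤ := by
    by_contra h
    exact hT1 (eq_bot_iff.2 (le_normalClosure.trans
      (hsol _ inferInstance (hsub _ le_normalClosure h)).le))
  have hs : ∀ z ∈ T, z ≠ 1 → Group.IsSolvable (𝒞[z] : Subgroup G) := fun z hz hz1 => by
    refine hsub _ (H44.ea2_cent1 hE hz) fun h => hz1 ?_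
    have hc : z ∈ center G := mem_center_iff.2 fun g => mem_cent1.1 (h ▸ mem_top g)
    exact zpowers_eq_bot.1 (hsol _ (H8.normal_zpowers_of_central hc)
      (H44.solv_of_two ((hT.pi.isPGroup Nat.prime_two).to_le (zpowers_le.2 hz))))
  obtain ⟨z, hz, hz1⟩ := H44.exists_ne_one_of_ne_bot hT1
  have hz2 := H8.orderOf_two_of (H44.ea2_sq hE hz) hz1
  have hQ : ∀ Q : Subgroup G, Odd (Nat.card Q) → T ≤ 𝒩(Q) → Q = ⊥ := fun Q h1 h2 => by
    refine eq_bot_iff.2 fun x hx => eq_bot_of_forall_ker hI hO fun θ hθ => ?_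
    obtain ⟨l, hl⟩ := hM.exists_missing hI hT hE hz hz1 hθ
    exact le_ker hI hT hE hs hθ hl h1 h2 hx
  have hN : 𝒩(T) ≠ ⊤ := fun h =>
    hT1 (hsol T (normalizer_eq_top_iff.1 h) (H44.solv_of_two (hT.pi.isPGroup Nat.prime_two)))
  have hSE := se_norm hT hE hT1 (fun z hz hz1 => (cent_le hT hE hz (hs z hz hz1) hQ).1) hN
  obtain ⟨w, hw2, hw⟩ : ∃ w : G, orderOf w = 2 ∧ w ∉ (𝒩(T) : Subgroup G) := by
    by_contra h
    push Not at h
    refine hN (eq_top_iff.2 (hK ▸ (closure_le _).2 fun x hx => ?_))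
    obtain ⟨t, ht, hc⟩ := Group.mem_conjugatesOfSet_iff.1 hx
    by_cases h1 : t = 1
    · rw [h1, isConj_one_right] at hc
      exact hc ▸ one_mem _
    · exact h x (by rw [← H8.orderOf_eq_of_isConj hc, H8.orderOf_two_of (H44.ea2_sq hE ht) h1])
  have hcj := (S1225.result _ hSE w hw2 hw z z hz2 (le_normalizer hz) hz2 (le_normalizer hz)).2 z
  obtain ⟨l, hl⟩ := exists_hom_ne hE hz hz1
  have hq : (Nat.card T : ℂ) ≠ 0 := H5.natCard_ne_zero
  have hval : ∀ θ ∈ nb I G, (θ : G → ℂ) z = -1 ∧ (θ : G → ℂ) 1 = Nat.card T - 1 := fun θ hθ => by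
    obtain ⟨h1, h2⟩ := mem_nb.1 hθ
    have hc := H5.isCharacter_of_isIrr θ.2
    have hcon : ∀ t ∈ T, t ≠ 1 → (θ : G → ℂ) t = (θ : G → ℂ) z := fun t ht ht1 =>
      (H5.isClassFunction_apply_of_isConj (H5.isClassFunction_of_isCharacter hc)
        (hcj t hz2 (H8.orderOf_two_of (H44.ea2_sq hE ht) ht1))).symm
    have h3 := card_mul_mu_ne hcon hl
    have h4 := card_mul_mu_one hcon
    have h5 := apply_ne_zero hI hT hE h1 hz
    rcases hM θ h1 l with e | e
    · exfalso
      rw [e, mul_zero] at h3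
      have h6 : normalClosure (T : Set G) ≤ H5.charKer hc := normalClosure_le_normal fun t ht => by
        by_cases ht1 : t = 1
        · exact ht1 ▸ one_mem _
        · exact (H5.mem_charKer _).2 (by rw [hcon t ht ht1]; linear_combination h3)
      exact h2 (H5.eq_one_of_forall_eq_degree θ.2 fun g => h6 (hK ▸ mem_top g))
    · rw [e, mul_one] at h3
      rcases hM θ h1 1 with e' | e'
      · rw [e', mul_zero, ← h3] at h4
        have : (θ : G → ℂ) z = -1 := mul_right_cancel₀ hq (by linear_combination -h4)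
        exact ⟨this, by linear_combination this - h3⟩
      · rw [e', mul_one, ← h3] at h4
        exact absurd ((mul_eq_zero.1 (by linear_combination -h4)).resolve_right hq) h5
  have h1 := sum_nb_deg (G := G) hI (y := z) (by rw [hz2])
  rw [Finset.sum_congr rfl fun θ hθ => by rw [(hval θ hθ).1, (hval θ hθ).2], Finset.sum_const,
    nsmul_eq_mul] at h1
  have h2 : (nb I G).card * (Nat.card T - 1) = 1 := by
    have h3 : 1 ≤ Nat.card T := Nat.card_pos
    have : ((nb I G).card : ℂ) * ((Nat.card T - 1 : ℕ) : ℂ) = 1 := by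
      rw [Nat.cast_sub h3]; push_cast; linear_combination -h1
    exact_mod_cast this
  obtain ⟨θ, hθ⟩ := Finset.card_pos.1 (show 0 < (nb I G).card by
    rw [Nat.eq_one_of_mul_eq_one_right h2]; exact one_pos)
  have h3 : Nat.card T = 2 := by have := Nat.eq_one_of_mul_eq_one_left h2; omega
  obtain ⟨h4, h5⟩ := hval θ hθ
  rw [h3] at h5
  have hc := H5.isCharacter_of_isIrr θ.2
  have h6 : (θ : G → ℂ) 1 = 1 := by rw [h5]; norm_num
  have h7 := ker_eq_bot hc (fun a ha => hcj a hz2 ha) (by rw [h4, h6]; norm_num) hO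
  obtain ⟨lam, hlam⟩ := H5.exists_monoidHom_of_degree_one hc h6
  refine hG (Group.isSolvable_of_comm fun a b => ?_)
  rw [← mul_inv_eq_one, ← mem_bot, ← h7, H5.mem_charKer, hlam]
  simp [mul_comm (lam a)]

theorem MF.solvable (hI : IsPModular 2 I) {A : Type u} [Group A] [Fintype A] {f : A →* G}
    (hA : ∀ a : A, a * a = 1) (hi : ¬ 2 ∣ f.range.index) (h : MF I f) : Group.IsSolvable G :=
  solvable_aux hI _ G rfl A f hA hi h

end Cfsg.Agent.H23.CD
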