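/-
Groups in which `χ(1) - χ(u)` is constant on the nonprincipal characters of the principal 2-block:
the character theoretic part.
-/
import Cfsg.Agent.H23.CD2
import Cfsg.Agent.H86.Lam
import Cfsg.Agent.H33.Orth

set_option autoImplicit false

namespace Cfsg.Agent.H23.CD

open Subgroup Cfsg Cfsg.Agent.H49 Cfsg.Agent.H32
open scoped ComplexConjugate

universe u

variable {G : Type u} [Group G] [Finite G] {I : Ideal AlgInt} {T : Subgroup G} {u s : G} {k : ℂ}

/-- All nontrivial 2-elements are conjugate to the 2-part of `u`. -/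
theorem isConj_of_const (hI : IsPModular 2 I) (hk0 : k ≠ 0)
    (hk : ∀ χ ∈ nb I G, (χ : G → ℂ) 1 - (χ : G → ℂ) u = k) (hs : IsPPart 2 u s) {x : G}
    (hx : ∃ j, orderOf x = 2 ^ j) (hx1 : x ≠ 1) : IsConj s x := by
  have := hI.2.1
  by_contra hn
  have h1 := H33.block_orthogonality hI H33.isPBlock_principalBlock hs
    (H33.isPPart_self Nat.prime_two hx) hn
  have hx' : ∃ j, orderOf x⁻¹ = 2 ^ j := by rwa [orderOf_inv]
  have h2 := sum_nb_deg (G := G) hI (y := x⁻¹) (by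
    by_contra h
    exact hx1 (inv_eq_one.1 (H33.eq_one_of_pElt_of_regular hx' h)))
  rw [finsum_eq_nb hI] at h1
  simp only [H33.oneIrr_apply] at h1
  have h3 : k * ∑ χ ∈ nb I G, (χ : G → ℂ) x⁻¹ = 0 := by
    rw [Finset.mul_sum, Finset.sum_congr rfl fun χ hχ => by rw [← hk χ hχ, sub_mul],
      Finset.sum_sub_distrib, h2]
    linear_combination -h1
  have h4 := (mul_eq_zero.1 h3).resolve_left hk0
  have h5 : ∑ χ ∈ nb I G, ((χ : G → ℂ) 1 * (χ : G → ℂ) x⁻¹ - (χ : G → ℂ) x⁻¹) ∈ locMax I := by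
    refine Submodule.sum_mem _ fun χ _ => ?_
    have hc := H5.isCharacter_of_isIrr χ.2
    have h6 := H33.char_mul_sub_mem hI hc (Commute.one_right x⁻¹) hx'
    rw [mul_one] at h6
    obtain ⟨d, hd⟩ := H5.exists_nat_degree hc
    have h7 : ((((d : ℤ) - 1) * d : ℤ) : ℂ) ∈ locMax I := (intCast_mem_locMax_iff hI).2 (by
      have := Int.even_mul_pred_self (d : ℤ)
      rw [mul_comm] at this
      exact_mod_cast this.two_dvd)
    have h8 := (locMax I).add_mem h7 (mul_mem_locMax_left (z := (χ : G → ℂ) 1 - 1)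
      (sub_mem (H33.irr_mem_locRing χ 1) (one_mem _)) h6)
    convert h8 using 1
    rw [hd]; push_cast; ring
  rw [Finset.sum_sub_distrib, h2, h4, sub_zero] at h5
  exact one_not_mem_locMax (by simpa using (locMax I).neg_mem h5)

theorem sup_cent_eq_top (hI : IsPModular 2 I) (hk0 : k ≠ 0)
    (hk : ∀ χ ∈ nb I G, (χ : G → ℂ) 1 - (χ : G → ℂ) u = k) (hT : IsSylowOf 2 T ⊤) :
    normalClosure (T : Set G) ⊔ 𝒞(T) = ⊤ := by
  have := hI.2.1
  have := Fintype.ofFinite G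
  set K := normalClosure (T : Set G) with hK
  have hKn : ⊤ ≤ 𝒩(K) := normal_iff_top_le_norm.1 inferInstance
  have hTK : T ≤ K := le_normalClosure
  have hF := frattini_arg le_top hKn (hT.sub hTK le_top)
  have hH : (K ⊔ 𝒞(T)).Normal := normal_iff_top_le_norm.2 fun g _ => by
    obtain ⟨a, ha, b, hb, rfl⟩ := hF.2.2 g (mem_top g)
    exact mul_mem (le_normalizer (mem_sup_left ha))
      (norm_sup (le_top.trans hKn) (norm_cent le_rfl) hb.2)
  set H := K ⊔ 𝒞(T) with hHd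
  by_contra hne
  have hodd : Odd (Nat.card (G ⧸ H)) := by
    have h1 := ((sylowOf_iff Nat.prime_two).1 hT).2.2
    rw [relIndex_top_right] at h1
    rw [← Nat.not_even_iff_odd, even_iff_two_dvd]
    exact fun h => h1 (h.trans (index_dvd_of_le (hTK.trans le_sup_left)))
  have hsol : Group.IsSolvable (G ⧸ H) := S0205.result hodd
  have hnt : Nontrivial (G ⧸ H) := QuotientGroup.nontrivial_iff.2 hne
  have h1 : commutator (G ⧸ H) ≠ ⊤ := (Group.IsSolvable.commutator_lt_top_of_nontrivial _).ne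
  have h2 : Nat.card ((G ⧸ H) →* ℂˣ) ≠ 1 := by
    rw [H5.card_monoidHom_eq_index_commutator]; rwa [Ne, index_eq_one]
  obtain ⟨l, hl⟩ : ∃ l : (G ⧸ H) →* ℂˣ, l ≠ 1 := by
    by_contra h
    push Not at h
    exact h2 (Nat.card_eq_one_iff_exists.2 ⟨1, h⟩)
  have key : ∀ l : (G ⧸ H) →* ℂˣ, l ≠ 1 → 1 - (l u : ℂ) = k := fun l hl => by
    have h3 := hk ⟨_, H5.isIrrCharacter_monoidHom (l.comp (QuotientGroup.mk' H))⟩ (mem_nb.2 ⟨?_, ?_⟩)
    · simpa using h3
    · refine H33.mem_principalBlock_of_two hI (hT.pi.isPGroup Nat.prime_two) _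
        (by simp [charDegree]) fun g _ hg => ?_
      have : (g : G ⧸ H) = 1 := (QuotientGroup.eq_one_iff g).2 (mem_sup_right hg)
      simp [this]
    · intro e
      refine hl (MonoidHom.ext fun x => ?_)
      obtain ⟨g, rfl⟩ := QuotientGroup.mk'_surjective H x
      exact Units.ext (congrFun e g)
  have h3 := key l hl
  have h4 := key l⁻¹ fun e => hl (MonoidHom.ext fun x => inv_eq_one.1 (DFunLike.congr_fun e x))
  have h5 : (l u)⁻¹ = l u := Units.ext (by
    rw [← MonoidHom.inv_apply]; linear_combination h3 - h4)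
  obtain ⟨m, hm⟩ := hodd
  have h6 : l u ^ (2 * m + 1) = 1 := by rw [← map_pow, ← hm, pow_card_eq_one', map_one]
  have h7 : l u ^ 2 = 1 := by rw [sq]; nth_rw 1 [← h5]; exact inv_mul_cancel _
  rw [pow_succ, pow_mul, h7, one_pow, one_mul] at h6
  rw [h6] at h3
  exact hk0 (by simpa using h3.symm)

theorem not_le_ker (hI : IsPModular 2 I) (hT : IsSylowOf 2 T ⊤)
    (h : normalClosure (T : Set G) ⊔ 𝒞(T) = ⊤) {χ : IrrCharacter G} (hχ : χ ∈ nb I G) :
    ¬ T ≤ H5.charKer (H5.isCharacter_of_isIrr χ.2) := by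
  have := hI.2.1
  intro hle
  set K := normalClosure (T : Set G) with hK
  have := Fintype.ofFinite (G ⧸ K)
  have h1 : K ≤ H5.charKer (H5.isCharacter_of_isIrr χ.2) := normalClosure_le_normal hle
  have hi := ((sylowOf_iff Nat.prime_two).1 hT).2.2
  rw [relIndex_top_right] at hi
  obtain ⟨φ, hφ, e⟩ := H5.exists_isIrr_quotient K χ.2 h1
  obtain ⟨hB, hne⟩ := mem_nb.1 hχ
  have h2 : ∑ x, φ x = 0 := H5.sum_irr_eq_zero hφ fun e' => hne (by rw [e, e'])
  have h3 : ∀ x, φ x / φ 1 - 1 ∈ locMax I := fun x => by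
    obtain ⟨g, rfl⟩ := QuotientGroup.mk_surjective x
    have hg : g ∈ K ⊔ 𝒞(T) := h ▸ mem_top g
    rw [mem_sup_of_normal_left] at hg
    obtain ⟨a, ha, c, hc, rfl⟩ := hg
    have h4 := H33.div_sub_one_mem_of_principal hI hB (g := c)
      fun h => hi (h.trans (index_dvd_of_le (le_cent1_iff.2 hc)))
    rw [e] at h4
    rwa [QuotientGroup.mk_mul, (QuotientGroup.eq_one_iff a).2 ha, one_mul]
  have h4 := Submodule.sum_mem (locMax I) (t := Finset.univ) fun x _ => h3 x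
  rw [Finset.sum_sub_distrib, ← Finset.sum_div, h2, zero_div, zero_sub, Finset.sum_const,
    nsmul_eq_mul, mul_one, Finset.card_univ, ← Nat.card_eq_fintype_card, neg_mem_iff,
    natCast_mem_locMax_iff hI] at h4
  exact hi (h4.trans (index_dvd_of_le le_normalClosure))

theorem exists_int_mul (hI : IsPModular 2 I)
    (hk : ∀ χ ∈ nb I G, (χ : G → ℂ) 1 - (χ : G → ℂ) u = k) (hu : 2 ∣ orderOf u)
    (hT : IsSylowOf 2 T ⊤) : ∃ j : ℤ, k * j = Nat.card T := by
  have := hI.2.1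
  have := Fintype.ofFinite G
  have h1 := H86.reg_irr_eq_sum hI H33.isPBlock_principalBlock
    (H33.oneIrr_mem_principalBlock (G := G))
  have h2 := congrFun h1 1
  have h3 := congrFun h1 u
  rw [H86.reg_one Nat.prime_two] at h2
  rw [H86.reg_of_singular _ hu] at h3
  rw [Finset.sum_apply, ← H86.finsum_mem_fs, finsum_eq_nb hI] at h2 h3
  simp only [Pi.smul_apply, smul_eq_mul, H33.oneIrr_apply] at h2 h3
  choose n hn using fun ψ : IrrCharacter G => H86.exists_int_pa_mul (G := G) Nat.prime_two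
    (φ := (H33.oneIrr G : G → ℂ)) (ψ := ψ)
    ⟨_, 0, H5.isCharacter_of_isIrr (H33.oneIrr G).2, H5.isCharacter_zero, (sub_zero _).symm⟩
    ⟨_, 0, H5.isCharacter_of_isIrr ψ.2, H5.isCharacter_zero, (sub_zero _).symm⟩
  obtain ⟨P, rfl⟩ := exists_sylow_of_top Nat.prime_two hT
  refine ⟨∑ ψ ∈ nb I G, n ψ, ?_⟩
  rw [P.card_eq_multiplicity]
  push_cast
  rw [← Finset.sum_congr rfl fun ψ _ => hn ψ, ← Finset.mul_sum, mul_left_comm, Finset.mul_sum,
    Finset.sum_congr rfl fun ψ hψ => by rw [← hk ψ hψ, mul_comm, mul_sub],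
    Finset.sum_sub_distrib]
  push_cast
  linear_combination (2 : ℂ) ^ (Nat.card G).factorization 2 * (h3 - h2)

omit [Finite G] in
theorem const_on (hE : IsElementaryAbelian 2 T) (hc : ∀ a : G, orderOf a = 2 → IsConj s a)
    (χ : IrrCharacter G) : ∀ t ∈ T, t ≠ 1 → (χ : G → ℂ) t = (χ : G → ℂ) s := fun t ht ht1 =>
  (H5.isClassFunction_apply_of_isConj (H5.isClassFunction_of_isIrr χ.2)
    (hc t (H8.orderOf_two_of (H44.ea2_sq hE ht) ht1))).symm

/-- Nontrivial linear characters of the Sylow subgroup have multiplicity one. -/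
theorem sub_eq_card (hI : IsPModular 2 I) (hk0 : k ≠ 0)
    (hk : ∀ χ ∈ nb I G, (χ : G → ℂ) 1 - (χ : G → ℂ) u = k) (hu : 2 ∣ orderOf u)
    (hT : IsSylowOf 2 T ⊤) (hE : IsElementaryAbelian 2 T) (hs : s ∈ T) (hs2 : orderOf s = 2)
    (hc : ∀ a : G, orderOf a = 2 → IsConj s a) {χ : IrrCharacter G} (hχ : χ ∈ nb I G) :
    (χ : G → ℂ) 1 - (χ : G → ℂ) s = Nat.card T := by
  have := Fintype.ofFinite T
  obtain ⟨l, hl⟩ := exists_hom_ne hE hs (H8.ne_one_of_orderOf_two hs2)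
  choose m hm using fun χ : IrrCharacter G => mu_nat T.subtype (H5.isCharacter_of_isIrr χ.2) l
  choose d hd0 hd using fun χ : IrrCharacter G => H5.exists_pos_nat_degree χ.2
  have h1 : ∀ χ : IrrCharacter G, (χ : G → ℂ) 1 - (χ : G → ℂ) s = Nat.card T * m χ := fun χ => by
    rw [← card_mul_mu_ne (const_on hE hc χ) hl, hm]
  have h2 : ∀ χ ∈ nb I G, 1 ≤ m χ := fun χ hχ => by
    refine Nat.one_le_iff_ne_zero.2 fun h => ?_
    refine not_le_ker hI hT (sup_cent_eq_top hI hk0 hk hT) hχ fun t ht => ?_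
    by_cases ht1 : t = 1
    · exact ht1 ▸ one_mem _
    · have := h1 χ
      rw [h] at this
      rw [H5.mem_charKer, const_on hE hc χ t ht ht1]
      linear_combination -this
  obtain ⟨j, hj⟩ := exists_int_mul hI hk hu hT
  have h3 := sum_nb_deg hI hu
  have h4 := sum_nb_deg (G := G) hI (y := s) (by rw [hs2])
  have h5 : k * ∑ χ ∈ nb I G, (d χ : ℂ) = Nat.card T * ∑ χ ∈ nb I G, (d χ : ℂ) * m χ := by
    rw [Finset.mul_sum, Finset.mul_sum, ← sub_eq_zero, ← Finset.sum_sub_distrib,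
      ← sub_self (-1 : ℂ)]
    nth_rw 1 [← h4]
    rw [← h3, ← Finset.sum_sub_distrib]
    refine Finset.sum_congr rfl fun χ hχ => ?_
    rw [← hk χ hχ, ← hd]
    linear_combination (χ : G → ℂ) 1 * h1 χ
  have hq : (Nat.card T : ℂ) ≠ 0 := H5.natCard_ne_zero
  have h6 : ((∑ χ ∈ nb I G, d χ : ℕ) : ℤ) = j * (∑ χ ∈ nb I G, d χ * m χ : ℕ) := by
    have : ∑ χ ∈ nb I G, (d χ : ℂ) = j * ∑ χ ∈ nb I G, (d χ : ℂ) * m χ :=
      mul_left_cancel₀ hq (by linear_combination j * h5 - (∑ χ ∈ nb I G, (d χ : ℂ)) * hj)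
    exact_mod_cast this
  have h7 : ∀ χ ∈ nb I G, d χ ≤ d χ * m χ := fun χ hχ => Nat.le_mul_of_pos_right _ (h2 χ hχ)
  have h8 := Finset.sum_le_sum h7
  have h9 : 0 < ∑ χ ∈ nb I G, d χ := Finset.sum_pos (fun χ _ => hd0 χ) ⟨χ, hχ⟩
  have h10 : ∑ χ ∈ nb I G, d χ = ∑ χ ∈ nb I G, d χ * m χ := by
    refine le_antisymm h8 ?_
    generalize ∑ χ ∈ nb I G, d χ = D at h6 h9
    generalize ∑ χ ∈ nb I G, d χ * m χ = E at h6
    have : 0 < j := by
      by_contra h
      have := mul_nonpos_of_nonpos_of_nonneg (not_lt.1 h) (Int.natCast_nonneg E)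
      omega
    have : (E : ℤ) ≤ j * E := le_mul_of_one_le_left (Int.natCast_nonneg E) this
    omega
  have h11 := (Finset.sum_eq_sum_iff_of_le h7).1 h10 χ hχ
  have h12 : m χ = 1 := by
    nth_rw 1 [← mul_one (d χ)] at h11
    exact (Nat.eq_of_mul_eq_mul_left (hd0 χ) h11).symm
  rw [h1, h12, Nat.cast_one, mul_one]

theorem exists_mu_one [Fintype T] (hI : IsPModular 2 I) (hE : IsElementaryAbelian 2 T)
    (hs2 : orderOf s = 2) (hc : ∀ a : G, orderOf a = 2 → IsConj s a)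
    (h : ∀ χ ∈ nb I G, (χ : G → ℂ) 1 - (χ : G → ℂ) s = Nat.card T) :
    ∃ χ ∈ nb I G, mu T.subtype (χ : G → ℂ) 1 = 0 := by
  by_contra hn
  push Not at hn
  choose m hm using fun χ : IrrCharacter G => mu_nat T.subtype (H5.isCharacter_of_isIrr χ.2) 1
  choose d hd0 hd using fun χ : IrrCharacter G => H5.exists_pos_nat_degree χ.2
  have hq : (Nat.card T : ℂ) ≠ 0 := H5.natCard_ne_zero
  have h4 := sum_nb_deg (G := G) hI (y := s) (by rw [hs2])
  have h5 : ∀ χ ∈ nb I G, (χ : G → ℂ) 1 * (χ : G → ℂ) s = (d χ * (m χ - 1) : ℕ) := fun χ hχ => by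
    have h1 := card_mul_mu_one (const_on hE hc χ)
    have h2 : 1 ≤ m χ := Nat.one_le_iff_ne_zero.2 fun e => hn χ hχ (by rw [hm, e, Nat.cast_zero])
    rw [h χ hχ, hm] at h1
    have h3 : (χ : G → ℂ) s = m χ - 1 := mul_left_cancel₀ hq (by linear_combination -h1)
    rw [hd, h3, Nat.cast_mul, Nat.cast_sub h2, Nat.cast_one]
  rw [Finset.sum_congr rfl h5, ← Nat.cast_sum] at h4
  have h6 : ((∑ χ ∈ nb I G, d χ * (m χ - 1) : ℕ) : ℤ) = -1 := by exact_mod_cast h4
  omega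

theorem exists_sign (hT : IsSylowOf 2 T ⊤) (hE : IsElementaryAbelian 2 T) (hs : s ∈ T)
    (hs1 : s ≠ 1) (hz : s ∈ center G) : ∃ σ : G →* ℂˣ, σ s = -1 ∧ ∀ g, σ g ^ 2 = 1 := by
  obtain ⟨l, hl⟩ := exists_hom_neg hE hs hs1
  let l' : T →* (powMonoidHom 2 : ℂˣ →* ℂˣ).ker := l.codRestrict _ fun a => by
    rw [MonoidHom.mem_ker, powMonoidHom_apply, ← map_pow, ← map_one l]
    congr 1
    exact Subtype.ext (hE.2 a a.2)
  refine ⟨(Subgroup.subtype _).comp (MonoidHom.transfer l'), ?_, fun g => (MonoidHom.transfer l' g).2⟩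
  have hi := ((sylowOf_iff Nat.prime_two).1 hT).2.2
  rw [relIndex_top_right, ← even_iff_two_dvd, Nat.not_even_iff_odd] at hi
  rw [MonoidHom.comp_apply, MonoidHom.transfer_eq_pow l' s fun k g _ => by
    rw [mul_assoc, ← mem_center_iff.1 (pow_mem hz k) g, inv_mul_cancel_left]]
  have : (⟨s ^ T.index, pow_mem hs _⟩ : T) = ⟨s, hs⟩ ^ T.index := rfl
  change l ⟨s ^ T.index, _⟩ = -1
  rw [this, map_pow, hl, hi.neg_one_pow]

theorem solvable_cent (hI : IsPModular 2 I) (hT : IsSylowOf 2 T ⊤) (hE : IsElementaryAbelian 2 T)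
    (hs : s ∈ T) (hs2 : orderOf s = 2) (hc : ∀ a : G, orderOf a = 2 → IsConj s a)
    (h : ∀ χ ∈ nb I G, (χ : G → ℂ) 1 - (χ : G → ℂ) s = Nat.card T) :
    Group.IsSolvable (𝒞[s] : Subgroup G) := by
  classical
  have := hI.2.1
  have := Fintype.ofFinite G
  have := Fintype.ofFinite T
  have hTc := H44.ea2_cent1 hE hs
  set C : Subgroup G := 𝒞[s] with hC
  have := Fintype.ofFinite C
  have hq : (Nat.card T : ℂ) ≠ 0 := H5.natCard_ne_zero
  have hi := ((sylowOf_iff Nat.prime_two).1 hT).2.2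
  rw [relIndex_top_right] at hi
  have key : ∀ θ ∈ principalBlock I C, ∀ l : T →* ℂˣ, l ≠ 1 →
      mu (inclusion hTc) (θ : C → ℂ) l = 0 ∨ mu (inclusion hTc) (θ : C → ℂ) l = 1 := by
    intro θ hθ l hl
    obtain ⟨χ, hχ, h1⟩ := H33.exists_principal_over hI C hθ
    refine mu_le_of_over C _ h1 l ?_
    change mu T.subtype _ l = 0 ∨ mu T.subtype _ l = 1
    have h2 := card_mul_mu_ne (const_on hE hc χ) hl
    by_cases e : (χ : G → ℂ) = fun _ => 1
    · left
      rw [e, sub_self, ← e] at h2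
      exact (mul_eq_zero.1 h2).resolve_left hq
    · right
      rw [h χ (mem_nb.2 ⟨hχ, e⟩)] at h2
      exact mul_left_cancel₀ hq (by rw [h2, mul_one])
  refine MF.solvable hI (f := inclusion hTc) (fun a => Subtype.ext (H44.ea2_sq hE a.2))
    (not_dvd_of_sub C _ (by
      change ¬ 2 ∣ T.subtype.range.index
      rwa [range_subtype])) fun θ hθ l => ?_
  by_cases hl : l = 1
  swap
  · exact key θ hθ l hl
  obtain ⟨σ, h1, h2⟩ := exists_sign (G := C) (T := T.subgroupOf C) (s := ⟨s, hTc hs⟩)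
    ((hall_subgroupOf_top hTc).2 (hT.sub hTc le_top))
    ⟨⟨⟨fun a b => Subtype.ext (Subtype.ext (H44.ea2_comm hE a.2 b.2))⟩⟩,
      fun a ha => Subtype.ext (hE.2 a ha)⟩ hs
    (fun e => H8.ne_one_of_orderOf_two hs2 (congrArg Subtype.val e))
    (mem_center_iff.2 fun g => Subtype.ext (mem_cent1.1 g.2))
  have h3 := key ⟨_, H5.isIrrCharacter_monoidHom_mul θ.2 σ⟩
    (H33.mem_principalBlock_of_regular_eq hI hθ fun g hg => by
      have h4 : σ g = 1 := by
        obtain ⟨m, hm⟩ := Nat.not_even_iff_odd.1 (mt even_iff_two_dvd.1 hg)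
        have h5 : σ g ^ (2 * m + 1) = 1 := by rw [← map_pow, ← hm, pow_orderOf_eq_one, map_one]
        rwa [pow_succ, pow_mul, h2, one_pow, one_mul] at h5
      simp [h4]) (σ.comp (inclusion hTc)) (fun e => by
        have h4 := DFunLike.congr_fun e ⟨s, hs⟩
        have h5 := congrArg Units.val (h1.symm.trans h4)
        norm_num at h5)
  have h4 : mu (inclusion hTc) (θ : C → ℂ) l = mu (inclusion hTc)
      (fun g => (σ g : ℂ) * (θ : C → ℂ) g) (σ.comp (inclusion hTc)) := by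
    unfold mu classInner
    congr 1
    refine Finset.sum_congr rfl fun a _ => ?_
    rw [hl, H5.conj_monoidHom, H5.conj_monoidHom]
    simp only [inv_one, MonoidHom.one_apply, Units.val_one, mul_one, MonoidHom.inv_apply,
      MonoidHom.comp_apply, Units.val_inv_eq_inv_val]
    field_simp
  rw [h4]
  exact h3

end Cfsg.Agent.H23.CD
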