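import Cfsg.Agent.S3378
import Cfsg.Agent.H42.RankTwo
import Cfsg.Agent.H22.QGroup
import Cfsg.Agent.H34.Quot
import Cfsg.Agent.H8.OddCore
import Cfsg.Agent.H8.Dihedral
import Cfsg.Agent.H88.Inverted
import Cfsg.Agent.H43.Basic

/-! Extensions of a simple group of order 60 in which the lifts of involutions are conjugate. -/

set_option autoImplicit false

open Cfsg Subgroup

namespace Cfsg.Agent.H23.C4

variable {G S : Type*} [Group G] [Finite G] [Group S] {π : G →* S} {u : G}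

open H24 H24.SL5 in
theorem sl5_of_ext [IsSimpleGroup S] (hπ : Function.Surjective π) (hS : Nat.card S = 60) {z : G}
    (hz1 : z ≠ 1) (hz : π z = 1) (hk : ∀ g, π g = 1 → g = 1 ∨ g = z)
    (h4 : ∀ g, orderOf (π g) = 2 → g ^ 2 ≠ 1) : Nonempty (G ≃* SL5) := by
  have := Finite.of_surjective π hπ
  obtain ⟨e⟩ := S0494.result hS
  have hzc : ∀ g : G, g * z = z * g := fun g => mul_inv_eq_iff_eq_mul.1
    ((hk _ (by simp [hz])).resolve_left (by simpa using hz1))
  have hz2 : z ^ 2 = 1 := (hk _ (by simp [hz])).resolve_right (by simpa [sq] using hz1)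
  have hG : Nat.card G = 120 := by
    rw [← π.ker.card_mul_index, index_ker, MonoidHom.range_eq_top.2 hπ, card_top, hS,
      (Nat.card_eq_two_iff' 1).2 ⟨⟨z, hz⟩, fun e => hz1 (congrArg Subtype.val e), fun g hg =>
        Subtype.ext ((hk g g.2).resolve_left fun e => hg (Subtype.ext e))⟩]
  have lift : ∀ (k : ℕ) (t : alternatingGroup (Fin 5)), t ^ (2 * k + 1) = 1 →
      ∃ x : G, e (π x) = t ∧ x ^ (2 * k + 1) = 1 := by
    intro k t ht
    obtain ⟨x, rfl⟩ := (e.surjective.comp hπ) t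
    rcases hk (x ^ (2 * k + 1)) (e.map_eq_one_iff.1 (by rw [map_pow, map_pow]; exact ht)) with h | h
    · exact ⟨x, rfl, h⟩
    · refine ⟨x * z, by rw [map_mul, hz, mul_one]; rfl, ?_⟩
      rw [(show Commute x z from hzc x).mul_pow, h, ← pow_succ', show 2 * k + 1 + 1 = 2 * (k + 1) by
        ring, pow_mul, hz2, one_pow]
  obtain ⟨x, hx, hx3⟩ := lift 1 (projA A) (by rw [← map_pow]; exact (congrArg _ A3).trans (map_one _))
  obtain ⟨y, hy, hy5⟩ := lift 2 (projA Y) (by rw [← map_pow]; exact (congrArg _ Y5).trans (map_one _))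
  have h1 : π (x * y) ^ 2 = 1 := e.map_eq_one_iff.1 (by
    rw [map_pow, map_mul, map_mul, hx, hy, ← map_mul, ← map_pow, AY, projA_eq_one_iff]
    exact Or.inr rfl)
  have h2 : π (x * y) ≠ 1 := by
    rw [Ne, ← e.map_eq_one_iff, map_mul, map_mul, hx, hy, ← map_mul, projA_eq_one_iff]
    decide +kernel
  obtain ⟨φ, -, -, hφ⟩ := exists_hom' hx3 hy5 hz2 (hzc x) (hzc y)
    ((hk _ (by rw [map_pow, h1])).resolve_left (h4 _ (orderOf_eq_prime h1 h2)))
  have hinj := injective_of_ne φ (by rwa [hφ])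
  exact ⟨(MulEquiv.ofBijective φ (hinj.bijective_of_nat_card_le (by rw [hG, card_eq]))).symm⟩

omit [Finite G] in
theorem exists_third {H : Subgroup G} (h : Nat.card H = 4) (a : G) : ∃ x ∈ H, x ≠ 1 ∧ x ≠ a := by
  by_contra hc
  push Not at hc
  have h1 : (H : Set G) ⊆ {1, a} := fun e he => (em (e = 1)).imp id (hc e he)
  have h2 := (Set.ncard_le_ncard h1).trans (Set.ncard_insert_le _ _)
  rw [Set.ncard_singleton, ← Nat.card_coe_set_eq] at h2
  exact absurd (h.symm.le.trans h2) (by decide)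

/-- The situation at the end of the character-theoretic argument. -/
structure Sit (π : G →* S) (u : G) : Prop where
  surj : Function.Surjective π
  card : Nat.card S = 60
  ord : orderOf (π u) = 2
  cS : Nat.card (centralizer ({π u} : Set S)) = 4
  sq : ∀ s, Commute s (π u) → s * s = 1
  conj : ∀ g, orderOf (π g) = 2 → IsConj u g
  cG : Nat.card (centralizer ({u} : Set G)) = 4

namespace Sit

omit [Finite G] in
theorem third (h : Sit π u) {b : G} (h1 : Commute (π b) (π u)) (h2 : π b ≠ 1) (h3 : π b ≠ π u) :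
    orderOf (π b) = 2 ∧ orderOf (π (u * b)) = 2 :=
  ⟨orderOf_eq_prime (by rw [pow_two, h.sq _ h1]) h2, orderOf_eq_prime (by
    rw [pow_two, h.sq _ (map_mul π u b ▸ (Commute.refl _).mul_left h1)]) fun e => h3 (by
      rw [map_mul, mul_eq_one_iff_inv_eq] at e
      rw [← e, H43.inv_eq_of_orderOf h.ord])⟩

omit [Finite G] in
theorem orderOf_eq (h : Sit π u) : orderOf u = 2 ∨ orderOf u = 4 := by
  have h1 : orderOf u ∣ 4 := h.cG ▸ orderOf_dvd_natCard _ (mem_centralizer_singleton_iff.2 rfl)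
  have h2 : 2 ∣ orderOf u := h.ord ▸ orderOf_map_dvd π u
  have := Nat.le_of_dvd (by decide) h1
  interval_cases orderOf u <;> simp_all

theorem inj (h : Sit π u) (hu : orderOf u = 2) : π.ker = ⊥ := by
  have := Finite.of_surjective π h.surj
  have key : ∀ b, Commute (π b) (π u) → π b ≠ 1 → π b ≠ π u → b ∈ centralizer {u} :=
    fun b h1 h2 h3 => by
      have h4 : ∀ g, orderOf (π g) = 2 → g⁻¹ = g := fun g hg =>
        H43.inv_eq_of_orderOf (H8.orderOf_eq_of_isConj (h.conj g hg) ▸ hu)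
      obtain ⟨h5, h6⟩ := h.third h1 h2 h3
      rw [mem_centralizer_singleton_iff, ← h4 _ h6, mul_inv_rev, h4 _ h5, h4 _ h.ord]
  have h1 : centralizer {π u} ≤ (centralizer {u}).map π := fun s hs => by
    obtain ⟨b, rfl⟩ := h.surj s
    by_cases h2 : π b = 1
    · exact h2 ▸ one_mem _
    by_cases h3 : π b = π u
    · exact ⟨u, mem_centralizer_singleton_iff.2 rfl, h3.symm⟩
    exact ⟨b, key b (mem_centralizer_singleton_iff.1 hs) h2 h3, rfl⟩
  obtain ⟨s, hs, h2, h3⟩ := exists_third h.cS (π u)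
  obtain ⟨b, rfl⟩ := h.surj s
  rw [mem_centralizer_singleton_iff] at hs
  have h4 : π.ker ≤ centralizer {u} := fun n hn => by
    have e : π (b * n) = π b := by rw [map_mul, MonoidHom.mem_ker.1 hn, mul_one]
    exact (mul_mem_cancel_left (key b hs h2 h3)).1 (key _ (e ▸ hs) (e ▸ h2) (e ▸ h3))
  have h5 := H34.card_map_mul_card_inf_ker π (centralizer {u})
  have h6 := card_le_of_le h1
  rw [inf_eq_left.2 h4, h.cG] at h5
  rw [h.cS] at h6
  refine card_eq_one.1 (le_antisymm ?_ Nat.card_pos)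
  nlinarith

theorem eq_sq (h : Sit π u) (hu : orderOf u = 4) {g w : G} (hg : orderOf (π g) = 2)
    (hw : Commute w g) (h2 : w * w = 1) (h1 : w ≠ 1) : w = g ^ 2 := by
  classical
  have key : ∀ w, Commute w u → w * w = 1 → w ≠ 1 → w = u ^ 2 := fun w hw h2 h1 => by
    have h3 : w ∈ zpowers u := eq_of_le_of_card_ge
      (zpowers_le.2 (mem_centralizer_singleton_iff.2 rfl) : zpowers u ≤ centralizer {u})
      (by rw [h.cG, Nat.card_zpowers, hu]) ▸ mem_centralizer_singleton_iff.2 hw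
    rw [mem_zpowers_iff_mem_range_orderOf, hu] at h3
    obtain ⟨k, hk, rfl⟩ := Finset.mem_image.1 h3
    rw [← pow_add, ← orderOf_dvd_iff_pow_eq_one, hu] at h2
    rw [Ne, ← orderOf_dvd_iff_pow_eq_one, hu] at h1
    rw [Finset.mem_range] at hk
    rw [show k = 2 by omega]
  obtain ⟨c, rfl⟩ := isConj_iff.1 (h.conj g hg)
  rw [conj_pow, ← key (c⁻¹ * w * c) (by simpa [mul_assoc] using hw.conj c⁻¹)
    (by simp [mul_assoc, ← mul_assoc w w, h2])
    fun e => h1 (conj_eq_one_iff.1 (by rwa [inv_inv] : c⁻¹ * w * c⁻¹⁻¹ = 1))]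
  group

theorem four [IsSimpleGroup S] (h : Sit π u) (hu : orderOf u = 4) (hO : oddCore G ≤ π.ker) :
    IsMulCommutative (oddCore G) ∧ Nonempty (G ⧸ oddCore G ≃* H24.SL5) := by
  have := Finite.of_surjective π h.surj
  obtain ⟨P, hP⟩ := (IsPGroup.of_card (p := 2) (n := 2) (G := zpowers u)
    (by rw [Nat.card_zpowers, hu]; rfl)).exists_le_sylow
  rw [zpowers_le] at hP
  have hz : orderOf (u ^ 2) = 2 := by rw [orderOf_pow, hu]; rfl
  have hz1 := H43.ne_one_of_orderOf hz
  have hz2 := H43.mul_self_of_orderOf hz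
  have hπz : π (u ^ 2) = 1 := by rw [map_pow, ← h.ord, pow_orderOf_eq_one]
  have h1 : ∀ p ∈ (P : Subgroup G), Commute (u ^ 2) p := fun p hp => by
    have : Nontrivial (P : Subgroup G) :=
      ⟨⟨u ^ 2, pow_mem hP 2⟩, 1, fun e => hz1 (congrArg Subtype.val e)⟩
    obtain ⟨w, hw, h1, h2⟩ := H42.exists_central_involution P.2
    have h3 : ∀ p ∈ (P : Subgroup G), Commute (w : G) p := fun p hp =>
      congrArg Subtype.val (mem_center_iff.1 hw ⟨p, hp⟩).symm
    exact h.eq_sq hu h.ord (h3 u hP) (congrArg Subtype.val h2) (fun e => h1 (Subtype.ext e)) ▸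
      h3 p hp
  have h2 : Nat.card ((P : Subgroup G).map π) = 2 ^ 2 := by
    rw [← Sylow.coe_mapSurjective h.surj, Sylow.card_eq_multiplicity, h.card,
      show 60 = 2 ^ 2 * 15 from rfl, Nat.factorization_mul (by decide) (by decide),
      Finsupp.add_apply, Nat.prime_two.factorization_pow, Finsupp.single_eq_same,
      Nat.factorization_eq_zero_of_not_dvd (by decide)]
  obtain ⟨_, ⟨b, hb, rfl⟩, h3, h4⟩ := exists_third h2 (π u)
  obtain ⟨h5, h6⟩ := h.third (congrArg Subtype.val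
    ((IsPGroup.isMulCommutative_of_card_eq_prime_sq h2).is_comm.comm ⟨_, mem_map_of_mem π hb⟩
      ⟨_, mem_map_of_mem π hP⟩)) h3 h4
  have h7 : ∀ d, π d = 1 → Commute (u ^ 2) d → d = 1 ∨ d = u ^ 2 := fun d hd hc => by
    have h7 : ∀ x ∈ (P : Subgroup G), orderOf (π x) = 2 → x⁻¹ * d * x = d⁻¹ := fun x hx h7 => by
      have := (h.eq_sq hu h7 (h1 x hx) hz2 hz1).symm.trans (h.eq_sq hu (g := x * d)
        (by rwa [map_mul, hd, mul_one]) ((h1 x hx).mul_right hc) hz2 hz1)
      rw [pow_two, pow_two, mul_assoc, mul_right_inj, ← mul_assoc, ← mul_inv_eq_iff_eq_mul] at this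
      rw [mul_assoc, ← this, inv_mul_cancel_left]
    have h8 := h7 _ (mul_mem hP hb) h6
    rw [show (u * b)⁻¹ * d * (u * b) = (b⁻¹ * (u⁻¹ * d * u)⁻¹ * b)⁻¹ by group, h7 u hP h.ord,
      inv_inv, h7 b hb h5, inv_inv] at h8
    refine or_iff_not_imp_left.2 (h.eq_sq hu h.ord ?_ (mul_eq_one_iff_eq_inv.2 h8))
    have h9 := h7 u hP h.ord
    rwa [← h8, mul_assoc, inv_mul_eq_iff_eq_mul] at h9
  set O := oddCore G
  have h8 : ∀ x ∈ O, orderOf x ≠ 2 := H43.odd_card_iff.1 H8.odd_card_pPrimeCore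
  refine ⟨⟨⟨fun a b => Subtype.ext (H88.mul_comm_of_inverted (H88.inv_of_fixedPointFree O hz2
    (normalizer_eq_top O ▸ mem_top _) fun y hy e => (h7 y (hO hy) e).resolve_right
      fun e' => h8 y hy (e' ▸ hz)) a.2 b.2)⟩⟩, ?_⟩
  let f := QuotientGroup.lift O π hO
  let Q := P.mapSurjective (QuotientGroup.mk'_surjective O)
  have h9 : ∀ x ∈ (Q : Subgroup (G ⧸ O)), f x = 1 → x = 1 ∨ x = (u ^ 2 : G) := by
    rintro _ ⟨p, hp, rfl⟩ e
    rcases h7 p e (h1 p hp) with rfl | rfl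
    exacts [Or.inl rfl, Or.inr rfl]
  have h10 : IsPGroup 2 f.ker := H22.isPGroup_of_hasNormalPComplement
    (H8.core_eq_bot_of_normal H22.pPrimeCore_quotient_pPrimeCore _)
    (H3.hasNormalPComplement_of_normalizer_le_centralizer (H3.sylowInf Q _) fun g hg =>
      mem_centralizer_iff.2 fun x hx => by
        by_cases e : x = 1
        · simp [e]
        have e1 := (h9 x hx x.2).resolve_left fun e' => e (Subtype.ext e')
        have e2 := (h9 _ ((mem_normalizer_iff.1 hg x).1 hx) (g * x * g⁻¹).2).resolve_left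
          fun e' => e (conj_eq_one_iff.1 (Subtype.ext e'))
        exact (mul_inv_eq_iff_eq_mul.1 (Subtype.ext (e2.trans e1.symm))).symm)
  refine sl5_of_ext (π := f) (QuotientGroup.lift_surjective_of_surjective _ _ h.surj _) h.card
    (fun e => h8 _ ((QuotientGroup.eq_one_iff _).1 e) hz) hπz
    (fun g hg => h9 g (h10.le_sylow_of_normal Q hg) hg) fun g hg e => ?_
  obtain ⟨x, rfl⟩ := QuotientGroup.mk_surjective g
  refine h8 _ ((QuotientGroup.eq_one_iff (x ^ 2)).1 e) ?_
  rw [orderOf_pow, ← H8.orderOf_eq_of_isConj (h.conj x hg), hu]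
  rfl

end Sit

end Cfsg.Agent.H23.C4
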